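import Cfsg.Agent.H95.SympDecomp

/-! Coordinates for a product of a symplectic plane and a three-dimensional symmetric space inside a
six-dimensional symplectic space: a pair `(y, z)` stands for `v₀ ⊗ y + v₁ ⊗ z`. -/

set_option autoImplicit false

namespace Cfsg.Agent.H55.SpGeo.Tensor

open scoped MatrixGroups Matrix
open Matrix Module Cfsg.Agent.H95

variable {F : Type*} [Field F]

/-- The three-dimensional space of the orthogonal factor. -/
abbrev V3 (F : Type*) := Fin 3 → F

/-- A non-degenerate symmetric bilinear form in dimension three. -/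
structure Sym3 (F : Type*) [Field F] where
  β : V3 F →ₗ[F] V3 F →ₗ[F] F
  symm : ∀ x y, β x y = β y x
  nd : ∀ x, (∀ y, β x y = 0) → x = 0

namespace Sym3

variable (S : Sym3 F)

theorem symm_zero {x y : V3 F} (h : S.β x y = 0) : S.β y x = 0 := by rw [S.symm, h]

theorem exists_one {x : V3 F} (hx : x ≠ 0) : ∃ y, S.β x y = 1 := by
  obtain ⟨y, hy⟩ := not_forall.1 fun h => hx (S.nd x h)
  exact ⟨(S.β x y)⁻¹ • y, by rw [map_smul, smul_eq_mul, inv_mul_cancel₀ hy]⟩

theorem exists_perp_ne (u v : V3 F) : ∃ n, n ≠ 0 ∧ S.β u n = 0 ∧ S.β v n = 0 := by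
  set L := (S.β u).prod (S.β v)
  have h : L.ker ≠ ⊥ := by
    intro hb
    have := LinearMap.finrank_le_finrank_of_injective (LinearMap.ker_eq_bot.1 hb)
    simp at this
  obtain ⟨n, hn, hn0⟩ := L.ker.ne_bot_iff.1 h
  have := LinearMap.mem_ker.1 hn
  exact ⟨n, hn0, congrArg Prod.fst this, congrArg Prod.snd this⟩

theorem perp_unique {u v : V3 F} (hu : u ≠ 0) (huv : ∀ t : F, v ≠ t • u) {n : V3 F} (hn : n ≠ 0)
    (h1 : S.β u n = 0) (h2 : S.β v n = 0) {z : V3 F} (g1 : S.β u z = 0) (g2 : S.β v z = 0) :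
    ∃ t : F, z = t • n := by
  set L := (S.β u).prod (S.β v)
  have hs : L.range = ⊤ := by
    by_contra h
    obtain ⟨ψ, hψ0, hψ⟩ := Submodule.exists_le_ker_of_lt_top _ (lt_top_iff_ne_top.2 h)
    have e : ∀ x, ψ (S.β u x, S.β v x) = 0 := fun x => hψ (LinearMap.mem_range_self L x)
    have e' : ∀ a b : F, ψ (a, b) = a * ψ (1, 0) + b * ψ (0, 1) := fun a b => by
      rw [← smul_eq_mul, ← smul_eq_mul, ← map_smul, ← map_smul, ← map_add]
      simp
    have hz : ψ (1, 0) • u + ψ (0, 1) • v = 0 := S.nd _ fun x => by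
      rw [map_add, map_smul, map_smul, LinearMap.add_apply, LinearMap.smul_apply, LinearMap.smul_apply,
        smul_eq_mul, smul_eq_mul]
      have h' := e x
      rw [e'] at h'
      linear_combination h'
    by_cases h01 : ψ (0, 1) = 0
    · rw [h01, zero_smul, add_zero, smul_eq_zero] at hz
      exact hψ0 (LinearMap.ext fun p => by
        rw [show p = (p.1, p.2) from rfl, e', hz.resolve_right hu, h01]; simp)
    · refine huv (-(ψ (0, 1))⁻¹ * ψ (1, 0)) ?_
      rw [add_eq_zero_iff_eq_neg'] at hz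
      rw [neg_mul, neg_smul, mul_smul, ← smul_neg, ← hz, inv_smul_smul₀ h01]
  have h3 := LinearMap.finrank_range_add_finrank_ker L
  rw [hs, finrank_top] at h3
  simp at h3
  have hle : Submodule.span F {n} = L.ker := by
    refine Submodule.eq_of_le_of_finrank_le ?_ (by rw [finrank_span_singleton hn]; omega)
    rw [Submodule.span_singleton_le_iff_mem, LinearMap.mem_ker]
    exact Prod.ext h1 h2
  obtain ⟨t, rfl⟩ := Submodule.mem_span_singleton.1
    (hle.symm ▸ LinearMap.mem_ker.2 (Prod.ext g1 g2) : z ∈ Submodule.span F {n})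
  exact ⟨t, rfl⟩

/-- A totally isotropic subspace has dimension at most one. -/
theorem iso_dep {u v : V3 F} (hu : u ≠ 0) (huu : S.β u u = 0) (hvv : S.β v v = 0) (huv : S.β u v = 0) :
    ∃ t : F, v = t • u := by
  by_contra h
  push Not at h
  obtain ⟨t, rfl⟩ := S.perp_unique hu h hu huu (S.symm_zero huv) huv hvv
  exact h t rfl

/-- An orthogonal anisotropic triple spans. -/
theorem expand_orth {x n k : V3 F} (hx : S.β x x ≠ 0) (hn : S.β n n ≠ 0) (hk : S.β k k ≠ 0)
    (hxn : S.β x n = 0) (hxk : S.β x k = 0) (hnk : S.β n k = 0) (y : V3 F) :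
    y = (S.β x y / S.β x x) • x + (S.β n y / S.β n n) • n + (S.β k y / S.β k k) • k := by
  rw [← sub_eq_zero]
  set r := y - ((S.β x y / S.β x x) • x + (S.β n y / S.β n n) • n + (S.β k y / S.β k k) • k) with hr
  have h1 : S.β x r = 0 := by simp [hr, hxn, hxk, hx]
  have h2 : S.β n r = 0 := by simp [hr, hnk, S.symm_zero hxn, hn]
  have h3 : S.β k r = 0 := by simp [hr, S.symm_zero hnk, S.symm_zero hxk, hk]
  have hx0 : x ≠ 0 := fun e => hx (by simp [e])
  have hk0 : k ≠ 0 := fun e => hk (by simp [e])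
  obtain ⟨t, ht⟩ := S.perp_unique hx0 (fun t e => hn (by rw [e] at hxn ⊢; simp_all)) hk0 hxk hnk h1 h2
  rw [ht, map_smul, smul_eq_mul] at h3
  rw [ht, (mul_eq_zero.1 h3).resolve_right hk, zero_smul]

/-- A hyperbolic pair and a vector orthogonal to it span. -/
theorem expand_hyp {i j w : V3 F} (hii : S.β i i = 0) (hjj : S.β j j = 0) (hij : S.β i j = 1)
    (hw : S.β w w ≠ 0) (hiw : S.β i w = 0) (hjw : S.β j w = 0) (y : V3 F) :
    y = S.β j y • i + S.β i y • j + (S.β w y / S.β w w) • w := by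
  have hji : S.β j i = 1 := (S.symm j i).trans hij
  have hwi := S.symm_zero hiw
  have hwj := S.symm_zero hjw
  rw [← sub_eq_zero]
  set r := y - (S.β j y • i + S.β i y • j + (S.β w y / S.β w w) • w) with hr
  have h1 : S.β i r = 0 := by simp [hr, hii, hij, hiw]
  have h2 : S.β j r = 0 := by simp [hr, hjj, hji, hjw]
  have h3 : S.β w r = 0 := by simp [hr, hwi, hwj, hw]
  have hi0 : i ≠ 0 := fun e => by simp [e] at hij
  have hw0 : w ≠ 0 := fun e => hw (by simp [e])
  obtain ⟨t, ht⟩ := S.perp_unique hi0 (fun t e => by simp [e, hii] at hij) hw0 hiw hjw h1 h2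
  rw [ht, map_smul, smul_eq_mul] at h3
  rw [ht, (mul_eq_zero.1 h3).resolve_right hw, zero_smul]

/-- The reflection along `n`. -/
noncomputable def refl (n : V3 F) : V3 F →ₗ[F] V3 F :=
  LinearMap.id - (2 / S.β n n) • (S.β n).smulRight n

theorem refl_apply (n y : V3 F) : S.refl n y = y - (2 * S.β n y / S.β n n) • n := by
  simp only [refl, LinearMap.sub_apply, LinearMap.id_apply, LinearMap.smul_apply, LinearMap.smulRight_apply,
    smul_smul]
  congr 2
  ring

theorem refl_iso {n : V3 F} (hn : S.β n n ≠ 0) (x y : V3 F) : S.β (S.refl n x) (S.refl n y) = S.β x y := by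
  simp only [refl_apply, map_sub, map_smul, LinearMap.sub_apply, LinearMap.smul_apply, smul_eq_mul,
    S.symm x n]
  field_simp
  ring

/-- The unipotent map fixing the isotropic vector `i` and moving `w ⊥ i`. -/
noncomputable def unip (i w : V3 F) : V3 F →ₗ[F] V3 F :=
  LinearMap.id + (S.β i).smulRight w - (S.β w).smulRight i - (S.β w w / 2) • (S.β i).smulRight i

theorem unip_apply (i w y : V3 F) :
    S.unip i w y = y + S.β i y • w - S.β w y • i - (S.β w w / 2 * S.β i y) • i := by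
  simp [unip, smul_smul]

theorem unip_iso (h2 : (2 : F) ≠ 0) {i w : V3 F} (hii : S.β i i = 0) (hiw : S.β i w = 0) (x y : V3 F) :
    S.β (S.unip i w x) (S.unip i w y) = S.β x y := by
  simp only [unip_apply, map_add, map_sub, map_smul, LinearMap.add_apply, LinearMap.sub_apply,
    LinearMap.smul_apply, smul_eq_mul, S.symm x i, S.symm x w, S.symm w i, hii, hiw]
  field_simp
  ring

end Sym3

variable {ι : Type} [Fintype ι] [DecidableEq ι]

/-- Tensor coordinates: `N` consists of the isometries acting as a product. -/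
structure Coord (f : (ι → F) → (ι → F) → F) (N : Subgroup (GL ι F)) where
  S : Sym3 F
  φ : (V3 F × V3 F) ≃ₗ[F] (ι → F)
  hf : Geo.IsSymplecticForm f
  form : ∀ p q : V3 F × V3 F, f (φ p) (φ q) = S.β p.1 q.2 - S.β p.2 q.1
  mem_N : ∀ g ∈ isoGrp f, ∀ (a b c d : F) (B : V3 F →ₗ[F] V3 F), (∀ p : V3 F × V3 F, (g : Matrix ι ι F) *ᵥ φ p =
    φ (a • B p.1 + b • B p.2, c • B p.1 + d • B p.2)) → g ∈ N
  of_N : ∀ g ∈ N, ∃ (a b c d : F) (B : V3 F →ₗ[F] V3 F), ∀ p : V3 F × V3 F, (g : Matrix ι ι F) *ᵥ φ p =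
    φ (a • B p.1 + b • B p.2, c • B p.1 + d • B p.2)

variable {f : (ι → F) → (ι → F) → F} {N : Subgroup (GL ι F)} (C : Coord f N)

namespace Coord

/-- The alternating form in coordinates. -/
def Φ (p q : V3 F × V3 F) : F := C.S.β p.1 q.2 - C.S.β p.2 q.1

/-- An element in coordinates. -/
def act (g : GL ι F) : (V3 F × V3 F) →ₗ[F] (V3 F × V3 F) :=
  C.φ.symm.toLinearMap ∘ₗ Matrix.toLin' (g : Matrix ι ι F) ∘ₗ C.φ.toLinearMap

theorem act_apply (g : GL ι F) (p : V3 F × V3 F) :
    C.act g p = C.φ.symm ((g : Matrix ι ι F) *ᵥ C.φ p) := rfl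

theorem phi_act (g : GL ι F) (p : V3 F × V3 F) : C.φ (C.act g p) = (g : Matrix ι ι F) *ᵥ C.φ p :=
  C.φ.apply_symm_apply _

theorem act_mul (g h : GL ι F) (p : V3 F × V3 F) : C.act (g * h) p = C.act g (C.act h p) := by
  rw [act_apply, act_apply, C.phi_act, mul_mulVec]

theorem act_inv (g : GL ι F) (p : V3 F × V3 F) : C.act g⁻¹ (C.act g p) = p := by
  rw [act_apply, C.phi_act, inv_mulVec_mulVec, C.φ.symm_apply_apply]

theorem act_inv' (g : GL ι F) (p : V3 F × V3 F) : C.act g (C.act g⁻¹ p) = p := by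
  simpa using C.act_inv g⁻¹ p

theorem act_inj (g : GL ι F) {p q : V3 F × V3 F} (h : C.act g p = C.act g q) : p = q := by
  rw [← C.act_inv g p, h, C.act_inv]

theorem ext_act {g h : GL ι F} (e : ∀ p, C.act g p = C.act h p) : g = h :=
  gl_ext fun x => by
    obtain ⟨p, rfl⟩ := C.φ.surjective x
    rw [← C.phi_act, ← C.phi_act, e]

theorem act_form {g : GL ι F} (hg : g ∈ isoGrp f) (p q : V3 F × V3 F) :
    C.Φ (C.act g p) (C.act g q) = C.Φ p q := by
  rw [Φ, Φ, ← C.form, ← C.form, C.phi_act, C.phi_act, mem_isoGrp.1 hg]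

theorem eq_zero_of_Φ {p : V3 F × V3 F} (h : ∀ q, C.Φ p q = 0) : p = 0 := by
  refine Prod.ext (C.S.nd _ fun y => ?_) (C.S.nd _ fun y => ?_)
  · simpa [Φ] using h (0, y)
  · simpa [Φ] using h (y, 0)

/-- Linear isometries in coordinates come from the group. -/
theorem exists_lift (h : (V3 F × V3 F) →ₗ[F] (V3 F × V3 F)) (hh : ∀ p q, C.Φ (h p) (h q) = C.Φ p q) :
    ∃ g ∈ isoGrp f, ∀ p, C.act g p = h p := by
  set L : (ι → F) →ₗ[F] (ι → F) := C.φ.toLinearMap ∘ₗ h ∘ₗ C.φ.symm.toLinearMap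
  have hinj : Function.Injective (LinearMap.toMatrix' L).mulVec := by
    intro x y hxy
    rw [LinearMap.toMatrix'_mulVec, LinearMap.toMatrix'_mulVec] at hxy
    obtain ⟨p, rfl⟩ := C.φ.surjective x
    obtain ⟨p', rfl⟩ := C.φ.surjective y
    simp only [L, LinearMap.comp_apply, LinearEquiv.coe_coe, LinearEquiv.symm_apply_apply,
      EmbeddingLike.apply_eq_iff_eq] at hxy
    rw [EmbeddingLike.apply_eq_iff_eq, ← sub_eq_zero]
    refine C.eq_zero_of_Φ fun q => ?_
    rw [← hh, map_sub, hxy, sub_self]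
    simp [Φ]
  obtain ⟨g, hg⟩ := Matrix.mulVec_injective_iff_isUnit.1 hinj
  have hact : ∀ p, C.act g p = h p := fun p => by
    rw [act_apply, hg, LinearMap.toMatrix'_mulVec]
    simp [L]
  refine ⟨g, mem_isoGrp.2 fun x y => ?_, hact⟩
  obtain ⟨p, rfl⟩ := C.φ.surjective x
  obtain ⟨p', rfl⟩ := C.φ.surjective y
  rw [← C.phi_act, ← C.phi_act, C.form, C.form, hact, hact]
  exact hh p p'

/-- A product element of the stabiliser. -/
theorem exists_prod (a b c d : F) (B : V3 F →ₗ[F] V3 F) (m : F) (hm : m * (a * d - b * c) = 1)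
    (hB : ∀ x y, C.S.β (B x) (B y) = m * C.S.β x y) :
    ∃ g ∈ isoGrp f, g ∈ N ∧ ∀ p, C.act g p = (a • B p.1 + b • B p.2, c • B p.1 + d • B p.2) := by
  obtain ⟨g, hg, hact⟩ := C.exists_lift
    { toFun := fun p => (a • B p.1 + b • B p.2, c • B p.1 + d • B p.2)
      map_add' := fun p q => Prod.ext (by simp [smul_add]; abel) (by simp [smul_add]; abel)
      map_smul' := fun t p => Prod.ext (by simp [smul_add, smul_comm t]) (by simp [smul_add, smul_comm t]) }
    (fun p q => by
      simp only [Φ, LinearMap.coe_mk, AddHom.coe_mk, map_add, map_smul, LinearMap.add_apply,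
        LinearMap.smul_apply, smul_eq_mul, hB]
      linear_combination (C.S.β p.1 q.2 - C.S.β p.2 q.1) * hm)
  exact ⟨g, hg, C.mem_N g hg a b c d B fun p => by rw [← C.phi_act, hact]; rfl, hact⟩

/-- The product elements with trivial orthogonal part. -/
theorem exists_left (a b c d : F) (h : a * d - b * c = 1) :
    ∃ g ∈ isoGrp f, g ∈ N ∧ ∀ p, C.act g p = (a • p.1 + b • p.2, c • p.1 + d • p.2) := by
  simpa using C.exists_prod a b c d LinearMap.id 1 (by rw [one_mul, h]) (fun x y => by simp)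

/-- The product elements with trivial symplectic part. -/
theorem exists_right (B : V3 F →ₗ[F] V3 F) (hB : ∀ x y, C.S.β (B x) (B y) = C.S.β x y) :
    ∃ g ∈ isoGrp f, g ∈ N ∧ ∀ p, C.act g p = (B p.1, B p.2) := by
  simpa using C.exists_prod 1 0 0 1 B 1 (by ring) (fun x y => by rw [one_mul, hB])

/-- `g` is the unipotent element `(y, z) ↦ (y + T z, z)`. -/
def IsSiegel (g : GL ι F) (T : V3 F →ₗ[F] V3 F) : Prop := ∀ p, C.act g p = (p.1 + T p.2, p.2)

variable {C}

theorem IsSiegel.mul {g g' : GL ι F} {T T' : V3 F →ₗ[F] V3 F} (h : C.IsSiegel g T) (h' : C.IsSiegel g' T') :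
    C.IsSiegel (g * g') (T + T') := fun p => by
  rw [C.act_mul, h', h, LinearMap.add_apply]
  exact Prod.ext (by simp; abel) rfl

theorem IsSiegel.inv {g : GL ι F} {T : V3 F →ₗ[F] V3 F} (h : C.IsSiegel g T) : C.IsSiegel g⁻¹ (-T) :=
  fun p => by
    apply C.act_inj g
    rw [C.act_inv', h, LinearMap.neg_apply]
    simp

variable (C)

theorem exists_transl (t : F) : ∃ g ∈ isoGrp f, g ∈ N ∧ C.IsSiegel g (t • LinearMap.id) := by
  obtain ⟨g, h1, h2, h3⟩ := C.exists_left 1 t 0 1 (by ring)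
  exact ⟨g, h1, h2, fun p => by rw [h3]; simp⟩

end Coord

end Cfsg.Agent.H55.SpGeo.Tensor
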