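import Cfsg.Agent.H55.SpGeo.Tensor.Orbit
import Cfsg.Prelude.Def_GeometricClasses

/-! The stabiliser of a product of a symplectic plane and a three-dimensional orthogonal space is maximal. -/

set_option autoImplicit false

namespace Cfsg.Agent.H55.SpGeo.Tensor

open scoped MatrixGroups Matrix Kronecker
open Matrix Module Cfsg.Agent.H95

variable {F : Type*} [Field F] {ι : Type} [Fintype ι] [DecidableEq ι]

/-- The coordinate map. -/
noncomputable def coordEquiv (e : ι ≃ Fin 2 × Fin 3) (P : GL ι F) : (V3 F × V3 F) ≃ₗ[F] (ι → F) :=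
  LinearEquiv.ofLinear
    { toFun := fun p => (P : Matrix ι ι F) *ᵥ ((fun q : Fin 2 × Fin 3 => ![p.1, p.2] q.1 q.2) ∘ e)
      map_add' := fun p q => by
        rw [← mulVec_add]
        congr 1
        ext i
        simp only [Function.comp_apply, Pi.add_apply]
        generalize (e i).1 = a
        fin_cases a <;> simp
      map_smul' := fun c p => by
        rw [RingHom.id_apply, ← mulVec_smul]
        congr 1
        ext i
        simp only [Function.comp_apply, Pi.smul_apply]
        generalize (e i).1 = a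
        fin_cases a <;> simp }
    { toFun := fun x =>
        (fun j => (((P⁻¹ : GL ι F) : Matrix ι ι F) *ᵥ x) (e.symm (0, j)),
          fun j => (((P⁻¹ : GL ι F) : Matrix ι ι F) *ᵥ x) (e.symm (1, j)))
      map_add' := fun x y => by simp only [mulVec_add, Pi.add_apply]; rfl
      map_smul' := fun c x => by simp only [mulVec_smul, Pi.smul_apply]; rfl }
    (LinearMap.ext fun x => by
      simp only [LinearMap.comp_apply, LinearMap.coe_mk, AddHom.coe_mk, LinearMap.id_apply]
      conv_rhs => rw [← mulVec_inv_mulVec P x]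
      congr 1
      ext i
      simp only [Function.comp_apply]
      obtain ⟨⟨a, j⟩, rfl⟩ := e.symm.surjective i
      fin_cases a <;> simp)
    (LinearMap.ext fun p => by
      simp only [LinearMap.comp_apply, LinearMap.coe_mk, AddHom.coe_mk, LinearMap.id_apply, inv_mulVec_mulVec]
      ext j <;> simp)

theorem coordEquiv_apply (e : ι ≃ Fin 2 × Fin 3) (P : GL ι F) (p : V3 F × V3 F) :
    coordEquiv e P p = (P : Matrix ι ι F) *ᵥ ((fun q : Fin 2 × Fin 3 => ![p.1, p.2] q.1 q.2) ∘ e) := rfl

theorem kronecker_apply (e : ι ≃ Fin 2 × Fin 3) (P : GL ι F) {g' : GL (Fin 2 × Fin 3) F}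
    (A : Matrix (Fin 2) (Fin 2) F) (B : Matrix (Fin 3) (Fin 3) F)
    (hg : (g' : Matrix (Fin 2 × Fin 3) (Fin 2 × Fin 3) F) = A ⊗ₖ B) (p : V3 F × V3 F) :
    ((MulAut.conj P (Geo.glReindex e.symm g') : GL ι F) : Matrix ι ι F) *ᵥ coordEquiv e P p =
      coordEquiv e P (A 0 0 • Matrix.toLin' B p.1 + A 0 1 • Matrix.toLin' B p.2,
        A 1 0 • Matrix.toLin' B p.1 + A 1 1 • Matrix.toLin' B p.2) := by
  rw [MulAut.conj_apply, mul_mulVec, mul_mulVec, coordEquiv_apply, inv_mulVec_mulVec, coordEquiv_apply]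
  congr 1
  have h : ((Geo.glReindex e.symm g' : GL ι F) : Matrix ι ι F) = (A ⊗ₖ B).submatrix e e := by
    rw [← hg]; rfl
  rw [h, Matrix.submatrix_mulVec_equiv]
  ext i
  simp only [Function.comp_apply]
  generalize e i = q
  obtain ⟨a, j⟩ := q
  simp only [Function.comp_assoc, Equiv.self_comp_symm, Function.comp_id, Matrix.mulVec, dotProduct,
    Fintype.sum_prod_type, Fin.sum_univ_two, Matrix.kroneckerMap_apply, Matrix.toLin'_apply]
  fin_cases a <;> simp [Finset.mul_sum, Matrix.mulVec, dotProduct, mul_assoc]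

/-- Tensor coordinates from a tensor structure. -/
theorem exists_coord {f : (ι → F) → (ι → F) → F} (hf : Geo.IsSymplecticForm f) (e : ι ≃ Fin 2 × Fin 3)
    (P : GL ι F) {f₁ : (Fin 2 → F) → (Fin 2 → F) → F} {f₂ : (Fin 3 → F) → (Fin 3 → F) → F}
    (h₁ : Geo.IsSymplecticForm f₁) (h₂ : Geo.IsSymmetricForm f₂)
    (hs : Geo.IsTensorFormStructure id f f₁ f₂ e P) :
    Nonempty (Coord f (Geo.tensorProductSubgroup 2 3 e P)) := by
  obtain ⟨c, hc, hform⟩ := hs
  set ω := f₁ (Pi.single 0 1) (Pi.single 1 1) with hω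
  let L : V3 F →ₗ[F] V3 F →ₗ[F] F := LinearMap.mk₂ F f₂ h₂.bilinear.add_left h₂.bilinear.smul_left
    h₂.bilinear.add_right h₂.bilinear.smul_right
  have hL : ∀ x y, f₂ x y = ∑ a, ∑ b, x a * Geo.gramMatrix f₂ a b * y b := fun x y => by
    show L x y = _
    conv_lhs => rw [pi_eq_sum_univ' x, pi_eq_sum_univ' y]
    simp only [map_sum, map_smul, LinearMap.sum_apply, LinearMap.smul_apply, smul_eq_mul, Geo.gramMatrix,
      Finset.mul_sum]
    rw [Finset.sum_comm]
    refine Finset.sum_congr rfl fun a _ => Finset.sum_congr rfl fun b _ => ?_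
    show _ * (_ * f₂ _ _) = _
    ring
  have hω0 : ω ≠ 0 := fun h0 => by
    obtain ⟨-, y, hy⟩ := h₁.nondegenerate (Pi.single 0 1) (by simp)
    refine hy ?_
    have hy' : y = y 0 • Pi.single 0 1 + y 1 • Pi.single 1 1 := by
      ext i; fin_cases i <;> simp
    rw [hy', h₁.bilinear.add_right, h₁.bilinear.smul_right, h₁.bilinear.smul_right, h₁.alternating, ← hω, h0]
    ring
  let S : Sym3 F :=
    { β := (c * ω) • L
      symm := fun x y => by show (c * ω) * f₂ x y = (c * ω) * f₂ y x; rw [h₂.symm]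
      nd := fun x hx => by
        by_contra h
        obtain ⟨-, y, hy⟩ := h₂.nondegenerate x h
        have : (c * ω) * f₂ x y = 0 := hx y
        exact hy ((mul_eq_zero.1 this).resolve_left (mul_ne_zero hc hω0)) }
  have hformφ : ∀ p q : V3 F × V3 F,
      f (coordEquiv e P p) (coordEquiv e P q) = S.β p.1 q.2 - S.β p.2 q.1 := fun p q => by
    rw [coordEquiv_apply, coordEquiv_apply, hform]
    show _ = c * ω * f₂ p.1 q.2 - c * ω * f₂ p.2 q.1
    rw [hL, hL]
    have g00 : Geo.gramMatrix f₁ 0 0 = 0 := h₁.alternating _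
    have g11 : Geo.gramMatrix f₁ 1 1 = 0 := h₁.alternating _
    have g01 : Geo.gramMatrix f₁ 0 1 = ω := rfl
    have g10 : Geo.gramMatrix f₁ 1 0 = -ω := h₁.skew _ _
    simp only [Geo.formOfGram, Matrix.kroneckerMap_apply, Fintype.sum_prod_type, Fin.sum_univ_two,
      Fin.sum_univ_three, g00, g11, g01, g10, id, Matrix.cons_val_zero, Matrix.cons_val_one]
    ring
  refine ⟨{ S := S, φ := coordEquiv e P, hf := hf, form := hformφ, mem_N := ?_, of_N := ?_ }⟩
  · intro g _ a b c' d B hg
    have hinj : ∀ p, (g : Matrix ι ι F) *ᵥ coordEquiv e P p = 0 → p = 0 := fun p hp => by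
      rw [← mulVec_zero (g : Matrix ι ι F)] at hp
      simpa using gl_mulVec_injective g hp
    have hB : ∀ w, B w = 0 → w = 0 := fun w hw => congrArg Prod.fst (hinj (w, 0) (by simp [hg, hw]))
    have hdet : a * d - b * c' ≠ 0 := fun h0 => by
      have hw : (Pi.single 0 1 : V3 F) ≠ 0 := by simp
      have e1 : d = 0 ∧ c' = 0 := by
        have := hinj (d • Pi.single 0 1, -c' • Pi.single 0 1) (by
          rw [hg, map_eq_zero_iff _ (coordEquiv e P).injective]
          simp only [map_smul, smul_smul, ← add_smul]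
          refine Prod.ext ?_ ?_
          · rw [show a * d + b * -c' = 0 by linear_combination h0, zero_smul]; rfl
          · rw [show c' * d + d * -c' = 0 by ring, zero_smul]; rfl)
        simpa [hw] using this
      have e2 : b = 0 ∧ a = 0 := by
        have := hinj (-b • Pi.single 0 1, a • Pi.single 0 1) (by
          rw [hg, map_eq_zero_iff _ (coordEquiv e P).injective]
          simp only [map_smul, smul_smul, ← add_smul]
          refine Prod.ext ?_ ?_
          · rw [show a * -b + b * a = 0 by ring, zero_smul]; rfl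
          · rw [show c' * -b + d * a = 0 by linear_combination h0, zero_smul]; rfl)
        simpa [hw] using this
      exact hw (congrArg Prod.fst (hinj (Pi.single 0 1, 0) (by simp [hg, e1.1, e1.2, e2.1, e2.2])))
    have hBu : IsUnit (LinearMap.toMatrix' B) := Matrix.mulVec_injective_iff_isUnit.1 fun x y hxy => by
      simp only [LinearMap.toMatrix'_mulVec] at hxy
      exact sub_eq_zero.1 (hB _ (by rw [map_sub, hxy, sub_self]))
    obtain ⟨bu, hbu⟩ := hBu
    obtain ⟨au, hau⟩ : IsUnit !![a, b; c', d] :=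
      (Matrix.isUnit_iff_isUnit_det _).2 (isUnit_iff_ne_zero.2 (by rwa [Matrix.det_fin_two_of]))
    set k : GL (Fin 2 × Fin 3) F :=
      ⟨(au : Matrix (Fin 2) (Fin 2) F) ⊗ₖ (bu : Matrix (Fin 3) (Fin 3) F),
        ((au⁻¹ : GL (Fin 2) F) : Matrix (Fin 2) (Fin 2) F) ⊗ₖ ((bu⁻¹ : GL (Fin 3) F) : Matrix (Fin 3) (Fin 3) F),
        by rw [← Matrix.mul_kronecker_mul, ← Units.val_mul, ← Units.val_mul, mul_inv_cancel, mul_inv_cancel,
          Units.val_one, Units.val_one, Matrix.one_kronecker_one],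
        by rw [← Matrix.mul_kronecker_mul, ← Units.val_mul, ← Units.val_mul, inv_mul_cancel, inv_mul_cancel,
          Units.val_one, Units.val_one, Matrix.one_kronecker_one]⟩
    refine Subgroup.mem_map.2 ⟨Geo.glReindex e.symm k, Subgroup.mem_map.2 ⟨k, ⟨au, bu, rfl⟩, rfl⟩, ?_⟩
    refine gl_ext fun x => ?_
    obtain ⟨p, rfl⟩ := (coordEquiv e P).surjective x
    show ((MulAut.conj P (Geo.glReindex e.symm k) : GL ι F) : Matrix ι ι F) *ᵥ _ = _
    rw [kronecker_apply e P _ _ rfl, hg, hau, hbu, Matrix.toLin'_toMatrix']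
    simp
  · intro g hg
    obtain ⟨g₁, hg₁, rfl⟩ := Subgroup.mem_map.1 hg
    obtain ⟨g', ⟨au, bu, hab⟩, rfl⟩ := Subgroup.mem_map.1 hg₁
    exact ⟨_, _, _, _, _, fun p => kronecker_apply e P _ _ hab p⟩

/-- The tensor stabiliser is maximal. -/
theorem maximal [Fintype F] (h2 : (2 : F) ≠ 0) (hq : 5 ≤ Fintype.card F) {f : (ι → F) → (ι → F) → F}
    {N : Subgroup (GL ι F)} (C : Coord f N) : Geo.IsMaximalIn (isoGrp f) (N ⊓ isoGrp f) := by
  refine ⟨lt_of_le_of_ne inf_le_right fun hEq => ?_, fun M hNM hMI => ?_⟩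
  · obtain ⟨n, hn⟩ := C.S.exists_aniso h2
    set T := (C.S.β n).smulRight n
    obtain ⟨g, hg, hact⟩ := C.exists_lift
      { toFun := fun p => (p.1 + T p.2, p.2)
        map_add' := fun p q => Prod.ext (by simp [add_smul]; abel) rfl
        map_smul' := fun t p => Prod.ext (by simp [smul_smul, mul_comm]) rfl }
      (fun p q => by
        simp only [Coord.Φ, LinearMap.coe_mk, AddHom.coe_mk, T, LinearMap.smulRight_apply, map_add, map_smul,
          LinearMap.add_apply, LinearMap.smul_apply, smul_eq_mul, C.S.symm p.2 n]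
        ring)
    have hgN : g ∈ N := (hEq.symm ▸ hg : g ∈ N ⊓ isoGrp f).1
    obtain ⟨a, b, c, d, B, hB⟩ := C.of_N g hgN
    have e : ∀ p, C.act g p = (a • B p.1 + b • B p.2, c • B p.1 + d • B p.2) := fun p =>
      C.φ.injective (by rw [C.phi_act, hB])
    have h1 : ∀ y, a • B y = y := fun y => by
      have := congrArg Prod.fst ((hact (y, 0)).symm.trans (e (y, 0)))
      simpa [T] using this.symm
    have h3 : ∀ z, T z = b • B z := fun z => by
      have := congrArg Prod.fst ((hact (0, z)).symm.trans (e (0, z)))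
      simpa using this
    obtain ⟨k, hnk, hk⟩ := C.S.exists_perp_aniso h2 hn
    have hk0 : k ≠ 0 := fun e => hk (by simp [e])
    have ha : a ≠ 0 := fun ha => hk0 (by rw [← h1 k, ha, zero_smul])
    have hb : b = 0 := by
      have e3 := h3 k
      simp only [T, LinearMap.smulRight_apply, hnk, zero_smul] at e3
      by_contra hb
      have := (smul_eq_zero.1 e3.symm).resolve_left hb
      exact hk0 (by rw [← h1 k, this, smul_zero])
    have e3 := h3 n
    simp only [T, LinearMap.smulRight_apply, hb, zero_smul, smul_eq_zero] at e3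
    exact e3.elim hn fun e => hn (by simp [e])
  by_cases hsc : ∀ g ∈ M, ∀ T, C.IsSiegel g T → ∃ t : F, T = t • LinearMap.id
  · exact Or.inl (le_antisymm (le_inf (Coord.le_N ⟨hNM, hMI, hsc⟩ h2 hq) hMI) hNM)
  · push Not at hsc
    obtain ⟨g, hg, T, hT, hns⟩ := hsc
    exact Or.inr (le_antisymm hMI (Coord.iso_le_of_siegel hNM hMI h2 hq hg hT hns))

end Cfsg.Agent.H55.SpGeo.Tensor
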