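import Cfsg.Agent.H55.SpGeo.Tensor.Basic

/-! An overgroup with a non-scalar unipotent element fixing a pure Lagrangian is the whole symplectic group. -/

set_option autoImplicit false

namespace Cfsg.Agent.H55.SpGeo.Tensor

open scoped MatrixGroups Matrix
open Matrix Module Cfsg.Agent.H95

variable {F : Type*} [Field F]

theorem exists_sq_ne_one [Fintype F] (hq : 5 ≤ Fintype.card F) : ∃ c : F, c ≠ 0 ∧ c ^ 2 ≠ 1 := by
  classical
  obtain ⟨c, hc⟩ := Finset.exists_mem_notMem_of_card_lt_card (s := ({0, 1, -1} : Finset F))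
    (t := Finset.univ) (by rw [Finset.card_univ]; exact Finset.card_le_three.trans_lt (by omega))
  simp only [Finset.mem_insert, Finset.mem_singleton, not_or] at hc
  refine ⟨c, hc.2.1, fun h => ?_⟩
  rcases mul_eq_zero.1 (show (c - 1) * (c + 1) = 0 by linear_combination h) with e | e
  · exact hc.2.2.1 (sub_eq_zero.1 e)
  · exact hc.2.2.2 (eq_neg_of_add_eq_zero_left e)

namespace Sym3

variable (S : Sym3 F)

/-- The symmetrised rank-two map of `u`, `v`. -/
noncomputable def dy (u v : V3 F) : V3 F →ₗ[F] V3 F := (S.β v).smulRight u + (S.β u).smulRight v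

theorem dy_apply (u v z : V3 F) : S.dy u v z = S.β v z • u + S.β u z • v := rfl

theorem dy_comm (u v : V3 F) : S.dy u v = S.dy v u := add_comm _ _

theorem exists_perp_aniso (h2 : (2 : F) ≠ 0) {n : V3 F} (hn : S.β n n ≠ 0) :
    ∃ k, S.β n k = 0 ∧ S.β k k ≠ 0 := by
  obtain ⟨u, hu0, hnu, -⟩ := S.exists_perp_ne n n
  by_cases hu : S.β u u = 0
  swap
  · exact ⟨u, hnu, hu⟩
  obtain ⟨v, hv⟩ := S.exists_one hu0
  set v' := v - (S.β n v / S.β n n) • n with hv'
  have h1 : S.β n v' = 0 := by simp [hv', hn]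
  have h3 : S.β u v' = 1 := by simp [hv', hv, S.symm_zero hnu]
  by_cases h : S.β v' v' = 0
  · refine ⟨v' + u, by simp [h1, hnu], ?_⟩
    simp only [map_add, LinearMap.add_apply, h, hu, h3, S.symm v' u]
    intro e
    exact h2 (by linear_combination e)
  · exact ⟨v', h1, h⟩

theorem exists_aniso (h2 : (2 : F) ≠ 0) : ∃ n, S.β n n ≠ 0 := by
  by_contra h
  push Not at h
  have h0 : (Pi.single 0 1 : V3 F) ≠ 0 := by simp
  obtain ⟨y, hy⟩ := S.exists_one h0
  have := h (Pi.single 0 1 + y)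
  simp only [map_add, LinearMap.add_apply, h, hy, S.symm y (Pi.single 0 1)] at this
  exact h2 (by linear_combination this)

theorem exists_frame (h2 : (2 : F) ≠ 0) {n : V3 F} (hn : S.β n n ≠ 0) :
    ∃ k x, S.β k k ≠ 0 ∧ S.β x x ≠ 0 ∧ S.β n k = 0 ∧ S.β n x = 0 ∧ S.β k x = 0 := by
  obtain ⟨k, hnk, hk⟩ := S.exists_perp_aniso h2 hn
  obtain ⟨x, hx0, hnx, hkx⟩ := S.exists_perp_ne n k
  refine ⟨k, x, hk, fun hx => ?_, hnk, hnx, hkx⟩
  obtain ⟨y, hy⟩ := S.exists_one hx0
  set r := y - (S.β n y / S.β n n) • n - (S.β k y / S.β k k) • k with hr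
  have h1 : S.β n r = 0 := by simp [hr, hn, hnk]
  have h3 : S.β k r = 0 := by simp [hr, hk, S.symm_zero hnk]
  have hn0 : n ≠ 0 := fun e => hn (by simp [e])
  obtain ⟨t, ht⟩ := S.perp_unique hn0 (fun t e => hk (by rw [e] at hnk ⊢; simp_all)) hx0 hnx hkx h1 h3
  have h4 : S.β x r = 1 := by simp [hr, hy, S.symm_zero hnx, S.symm_zero hkx]
  rw [ht, map_smul, hx, smul_zero] at h4
  exact zero_ne_one h4

end Sym3

variable [Fintype F] {ι : Type} [Fintype ι] [DecidableEq ι]
  {f : (ι → F) → (ι → F) → F} {N : Subgroup (GL ι F)} (C : Coord f N) {M : Subgroup (GL ι F)}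

namespace Coord

/-- `M` contains the unipotent element of `T`. -/
def InS (M : Subgroup (GL ι F)) (T : V3 F →ₗ[F] V3 F) : Prop := ∃ g ∈ M, C.IsSiegel g T

variable {C}

omit [Fintype F] in
theorem InS.sub {T T' : V3 F →ₗ[F] V3 F} (h : C.InS M T) (h' : C.InS M T') : C.InS M (T - T') := by
  obtain ⟨g, hg, e⟩ := h
  obtain ⟨g', hg', e'⟩ := h'
  exact ⟨g * g'⁻¹, M.mul_mem hg (M.inv_mem hg'), sub_eq_add_neg T T' ▸ e.mul e'.inv⟩

omit [Fintype F] in
theorem InS.add {T T' : V3 F →ₗ[F] V3 F} (h : C.InS M T) (h' : C.InS M T') : C.InS M (T + T') := by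
  obtain ⟨g, hg, e⟩ := h
  obtain ⟨g', hg', e'⟩ := h'
  exact ⟨g * g', M.mul_mem hg hg', e.mul e'⟩

omit [Fintype F] in
theorem InS.conj (hNM : N ⊓ isoGrp f ≤ M) {T T' : V3 F →ₗ[F] V3 F} (h : C.InS M T) {B : V3 F →ₗ[F] V3 F}
    (hB : ∀ x y, C.S.β (B x) (B y) = C.S.β x y) (hT : ∀ z, T' (B z) = B (T z)) : C.InS M T' := by
  obtain ⟨g, hg, e⟩ := h
  obtain ⟨b, hb, hbN, hact⟩ := C.exists_right B hB
  refine ⟨b * g * b⁻¹, M.mul_mem (M.mul_mem (hNM ⟨hbN, hb⟩) hg) (M.inv_mem (hNM ⟨hbN, hb⟩)), fun p => ?_⟩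
  obtain ⟨q, rfl⟩ : ∃ q, C.act b q = p := ⟨_, C.act_inv' b p⟩
  rw [C.act_mul, C.act_mul, C.act_inv, e, hact, hact]
  exact Prod.ext (by simp [hT]) rfl

omit [Fintype F] in
theorem InS.sq (hNM : N ⊓ isoGrp f ≤ M) {T : V3 F →ₗ[F] V3 F} (h : C.InS M T) (s : F) (hs : s ≠ 0) :
    C.InS M (s ^ 2 • T) := by
  obtain ⟨g, hg, e⟩ := h
  obtain ⟨b, hb, hbN, hact⟩ := C.exists_left s 0 0 s⁻¹ (by rw [mul_inv_cancel₀ hs]; ring)
  refine ⟨b * g * b⁻¹, M.mul_mem (M.mul_mem (hNM ⟨hbN, hb⟩) hg) (M.inv_mem (hNM ⟨hbN, hb⟩)), fun p => ?_⟩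
  obtain ⟨q, rfl⟩ : ∃ q, C.act b q = p := ⟨_, C.act_inv' b p⟩
  rw [C.act_mul, C.act_mul, C.act_inv, e, hact, hact]
  refine Prod.ext ?_ (by simp)
  simp only [zero_smul, zero_add, add_zero, LinearMap.smul_apply, map_smul, smul_smul, smul_add]
  congr 2
  field_simp

omit [Fintype F] in
theorem InS.smul (hNM : N ⊓ isoGrp f ≤ M) (h2 : (2 : F) ≠ 0) {T : V3 F →ₗ[F] V3 F} (h : C.InS M T) (c : F) :
    C.InS M (c • T) := by
  have hz : C.InS M (0 : V3 F →ₗ[F] V3 F) := sub_self T ▸ h.sub h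
  have hs : ∀ s : F, C.InS M (s ^ 2 • T) := fun s => by
    rcases eq_or_ne s 0 with rfl | hs
    · rw [zero_pow two_ne_zero, zero_smul]; exact hz
    · exact h.sq hNM s hs
  have := (hs ((c + 1) / 2)).sub (hs ((c - 1) / 2))
  convert this using 1
  refine LinearMap.ext fun z => ?_
  simp only [LinearMap.sub_apply, LinearMap.smul_apply]
  match_scalars <;> field_simp <;> ring

omit [Fintype F] in
theorem InS.dy_conj (hNM : N ⊓ isoGrp f ≤ M) {u v : V3 F} (h : C.InS M (C.S.dy u v)) {B : V3 F →ₗ[F] V3 F}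
    (hB : ∀ x y, C.S.β (B x) (B y) = C.S.β x y) : C.InS M (C.S.dy (B u) (B v)) :=
  h.conj hNM hB fun z => by simp [Sym3.dy_apply, hB]

/-- A Siegel element is self-adjoint. -/
theorem IsSiegel.selfAdjoint {g : GL ι F} (hg : g ∈ isoGrp f) {T : V3 F →ₗ[F] V3 F} (h : C.IsSiegel g T)
    (x y : V3 F) : C.S.β (T x) y = C.S.β x (T y) := by
  have e := C.act_form hg (0, x) (0, y)
  rw [h, h] at e
  simp only [Φ, zero_add, map_zero, LinearMap.zero_apply, sub_zero] at e
  linear_combination e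

/-- A non-scalar element gives a rank two map `dy n w`. -/
theorem exists_dy (hNM : N ⊓ isoGrp f ≤ M) (hMI : M ≤ isoGrp f) (h2 : (2 : F) ≠ 0) (hq : 5 ≤ Fintype.card F)
    {g : GL ι F} (hg : g ∈ M) {T : V3 F →ₗ[F] V3 F} (hT : C.IsSiegel g T)
    (hns : ∀ t : F, T ≠ t • LinearMap.id) :
    ∃ n w, C.S.β n n ≠ 0 ∧ w ≠ 0 ∧ C.S.β n w = 0 ∧ C.InS M (C.S.dy n w) := by
  obtain ⟨n, hn, hne⟩ : ∃ n, C.S.β n n ≠ 0 ∧ ∀ t : F, T n ≠ t • n := by
    by_contra hcon
    push Not at hcon
    obtain ⟨n, hn⟩ := C.S.exists_aniso h2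
    obtain ⟨k, x, hk, hx, hnk, hnx, hkx⟩ := C.S.exists_frame h2 hn
    obtain ⟨γ, hγ0, hγ1⟩ := exists_sq_ne_one hq
    have hpair : ∀ {u v : V3 F}, C.S.β u u ≠ 0 → C.S.β v v ≠ 0 → C.S.β u v = 0 →
        ∀ {a b : F}, T u = a • u → T v = b • v → a = b := by
      intro u v hu hv huv a b hau hbv
      obtain ⟨c, hc0, hc⟩ : ∃ c : F, c ≠ 0 ∧ C.S.β (u + c • v) (u + c • v) ≠ 0 := by
        have e : ∀ c : F, C.S.β (u + c • v) (u + c • v) = C.S.β u u + c ^ 2 * C.S.β v v := fun c => by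
          simp [huv, C.S.symm_zero huv]; ring
        by_cases h1 : C.S.β u u + 1 ^ 2 * C.S.β v v = 0
        · refine ⟨γ, hγ0, fun h => mul_ne_zero (sub_ne_zero.2 hγ1) hv ?_⟩
          rw [e] at h
          linear_combination h - h1
        · exact ⟨1, one_ne_zero, by rwa [e]⟩
      obtain ⟨t, ht⟩ := hcon _ hc
      rw [map_add, map_smul, hau, hbv, smul_add] at ht
      have h1 := congrArg (C.S.β u) ht
      have h3 := congrArg (C.S.β v) ht
      simp only [map_add, map_smul, smul_eq_mul, huv, C.S.symm_zero huv, mul_zero, add_zero, zero_add] at h1 h3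
      have e1 : a = t := mul_right_cancel₀ hu h1
      have e2 : b = t := mul_right_cancel₀ (mul_ne_zero hc0 hv) (by linear_combination h3)
      rw [e1, e2]
    obtain ⟨a, ha⟩ := hcon n hn
    obtain ⟨b, hb⟩ := hcon k hk
    obtain ⟨c, hc⟩ := hcon x hx
    refine hns a (LinearMap.ext fun y => ?_)
    rw [C.S.expand_orth hn hk hx hnk hnx hkx y]
    simp only [map_add, map_smul, ha, hb, hc, LinearMap.smul_apply, LinearMap.id_apply,
      ← hpair hn hk hnk ha hb, ← hpair hn hx hnx ha hc, smul_smul, mul_comm a, smul_add]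
  set w := T n - (C.S.β n (T n) / C.S.β n n) • n with hw
  have hw0 : w ≠ 0 := fun e => hne _ (sub_eq_zero.1 e)
  refine ⟨n, w, hn, hw0, by simp [hw, hn], ?_⟩
  have h : C.InS M T := ⟨g, hg, hT⟩
  have hsymm : ∀ z, C.S.β n (T z) = C.S.β (T n) z := fun z => (hT.selfAdjoint (hMI hg) n z).symm
  have hrr : ∀ z, C.S.refl n (C.S.refl n z) = z := fun z => by
    simp only [Sym3.refl_apply, map_sub, map_smul, smul_eq_mul]
    match_scalars <;> field_simp <;> ring
  have h' : C.InS M ((C.S.refl n).comp (T.comp (C.S.refl n))) :=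
    h.conj hNM (C.S.refl_iso hn) fun z => by simp [hrr]
  have := (h.sub h').smul hNM h2 (C.S.β n n / 2)
  convert this using 1
  refine LinearMap.ext fun z => ?_
  simp only [Sym3.dy_apply, LinearMap.smul_apply, LinearMap.sub_apply, LinearMap.comp_apply, Sym3.refl_apply,
    map_sub, map_smul, smul_eq_mul, hw]
  rw [hsymm z]
  match_scalars <;> field_simp <;> ring

/-- From one rank two map through `n` to all of them. -/
theorem dy_all (hNM : N ⊓ isoGrp f ≤ M) (h2 : (2 : F) ≠ 0) (hq : 5 ≤ Fintype.card F) {n w : V3 F}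
    (hn : C.S.β n n ≠ 0) (hw0 : w ≠ 0) (hnw : C.S.β n w = 0) (h : C.InS M (C.S.dy n w)) {y : V3 F}
    (hny : C.S.β n y = 0) : C.InS M (C.S.dy n y) := by
  obtain ⟨m, hnm, hm, hmw, hind⟩ : ∃ m, C.S.β n m = 0 ∧ C.S.β m m ≠ 0 ∧ C.S.β m w ≠ 0 ∧ ∀ t : F, m ≠ t • w := by
    by_cases hw : C.S.β w w = 0
    · obtain ⟨v, hv⟩ := C.S.exists_one hw0
      set v' := v - (C.S.β n v / C.S.β n n) • n with hv'
      have h1 : C.S.β n v' = 0 := by simp [hv', hn]
      have h3 : C.S.β w v' = 1 := by simp [hv', hv, C.S.symm_zero hnw]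
      obtain ⟨s, hs⟩ : ∃ s : F, C.S.β (v' + s • w) (v' + s • w) ≠ 0 := by
        by_contra hc
        push Not at hc
        have e0 := hc 0
        have e1 := hc 1
        simp only [zero_smul, add_zero, one_smul, map_add, LinearMap.add_apply, hw, h3,
          C.S.symm v' w] at e0 e1
        exact h2 (by linear_combination e1 - e0)
      refine ⟨v' + s • w, by simp [h1, hnw], hs, ?_, fun t e => ?_⟩
      · rw [C.S.symm]; simp [h3, hw]
      · have := congrArg (C.S.β w) e
        simp [h3, hw] at this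
    · obtain ⟨u, hu0, hnu, hwu⟩ := C.S.exists_perp_ne n w
      have hu : C.S.β u u ≠ 0 := fun hu => by
        have hn0 : n ≠ 0 := fun e => hn (by simp [e])
        obtain ⟨z, hz⟩ := C.S.exists_one hu0
        set r := z - (C.S.β n z / C.S.β n n) • n - (C.S.β w z / C.S.β w w) • w with hr
        have h1 : C.S.β n r = 0 := by simp [hr, hn, hnw]
        have h3 : C.S.β w r = 0 := by simp [hr, hw, C.S.symm_zero hnw]
        obtain ⟨t, ht⟩ := C.S.perp_unique hn0 (fun t e => hw (by rw [e] at hnw ⊢; simp_all)) hu0 hnu hwu h1 h3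
        have h4 : C.S.β u r = 1 := by simp [hr, hz, C.S.symm_zero hnu, C.S.symm_zero hwu]
        rw [ht, map_smul, hu, smul_zero] at h4
        exact zero_ne_one h4
      obtain ⟨γ, hγ0, hγ1⟩ := exists_sq_ne_one hq
      obtain ⟨c, hc0, hc⟩ : ∃ c : F, c ≠ 0 ∧ C.S.β w w + c ^ 2 * C.S.β u u ≠ 0 := by
        by_cases h1 : C.S.β w w + 1 ^ 2 * C.S.β u u = 0
        · refine ⟨γ, hγ0, fun h => mul_ne_zero (sub_ne_zero.2 hγ1) hu ?_⟩
          linear_combination h - h1
        · exact ⟨1, one_ne_zero, h1⟩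
      refine ⟨w + c • u, by simp [hnw, hnu], ?_, by simpa [C.S.symm_zero hwu] using hw, fun t e => ?_⟩
      · convert hc using 1
        simp [hwu, C.S.symm_zero hwu]
        ring
      · have := congrArg (C.S.β u) e
        simp [C.S.symm_zero hwu, hc0, hu] at this
  have hrn : C.S.refl m n = n := by rw [Sym3.refl_apply, C.S.symm_zero hnm]; simp
  have hdiff := h.sub (h.dy_conj hNM (B := C.S.refl m) (C.S.refl_iso hm))
  have hm' : C.InS M (C.S.dy n m) := by
    have := hdiff.smul hNM h2 (C.S.β m m / (2 * C.S.β m w))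
    convert this using 1
    refine LinearMap.ext fun z => ?_
    rw [hrn]
    simp only [Sym3.dy_apply, Sym3.refl_apply, LinearMap.smul_apply, LinearMap.sub_apply, map_sub, map_smul,
      smul_eq_mul]
    match_scalars <;> field_simp <;> ring
  obtain ⟨s, t, rfl⟩ : ∃ s t : F, y = s • w + t • m := by
    obtain ⟨z, hz⟩ : ∃ z : F, z = C.S.β n n := ⟨_, rfl⟩
    have hspan : (Submodule.span F {w, m} : Submodule F (V3 F)) = LinearMap.ker (C.S.β n) := by
      refine Submodule.eq_of_le_of_finrank_le ?_ ?_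
      · rw [Submodule.span_le]
        rintro x (rfl | rfl)
        · exact hnw
        · exact hnm
      · have hli : LinearIndependent F ![w, m] := by
          rw [LinearIndependent.pair_iff' hw0]
          exact fun t e => hind t e.symm
        have h3 := finrank_span_eq_card hli
        rw [Matrix.range_cons, Matrix.range_cons, Matrix.range_empty, Set.union_empty,
          Set.singleton_union] at h3
        rw [h3]
        have h4 := LinearMap.finrank_range_add_finrank_ker (C.S.β n)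
        have h5 : LinearMap.range (C.S.β n) ≠ ⊥ := fun e => hn (by
          have := LinearMap.mem_range_self (C.S.β n) n
          rwa [e, Submodule.mem_bot] at this)
        have h6 := Submodule.one_le_finrank_iff.2 h5
        simp only [Module.finrank_fin_fun, Fintype.card_fin] at h4 ⊢
        omega
    obtain ⟨s, t, hst⟩ := Submodule.mem_span_pair.1 (hspan.symm ▸ (hny : y ∈ LinearMap.ker (C.S.β n)) :
      y ∈ Submodule.span F {w, m})
    exact ⟨s, t, hst.symm⟩
  have := (h.smul hNM h2 s).add (hm'.smul hNM h2 t)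
  convert this using 1
  refine LinearMap.ext fun z => ?_
  simp only [Sym3.dy_apply, LinearMap.add_apply, LinearMap.smul_apply, map_add, map_smul, smul_eq_mul]
  module

/-- Root groups at the isotropic pure vectors. -/
theorem rootIn_iso (hNM : N ⊓ isoGrp f ≤ M) (hMI : M ≤ isoGrp f) (h2 : (2 : F) ≠ 0) (hq : 5 ≤ Fintype.card F)
    {n w : V3 F} (hn : C.S.β n n ≠ 0) (hw0 : w ≠ 0) (hnw : C.S.β n w = 0) (h : C.InS M (C.S.dy n w))
    {i : V3 F} (hii : C.S.β i i = 0) (hin : C.S.β i n ≠ 0) (a c : F) :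
    RootIn C.hf M (C.φ (a • i, c • i)) := by
  obtain ⟨v, hv0, hnv, hiv⟩ := C.S.exists_perp_ne n i
  have hi0 : i ≠ 0 := fun e => hin (by simp [e])
  have hv : C.S.β v v ≠ 0 := fun hv => by
    obtain ⟨t, ht⟩ := C.S.iso_dep hi0 hii hv hiv
    rw [ht, map_smul, smul_eq_mul, mul_eq_zero] at hnv
    exact hv0 (by rw [ht, hnv.resolve_right (fun e => hin (C.S.symm_zero e)), zero_smul])
  have h1 := dy_all hNM h2 hq hn hw0 hnw h hnv
  rw [Sym3.dy_comm] at h1
  have hn0 : n ≠ 0 := fun e => hn (by simp [e])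
  have h3 := dy_all hNM h2 hq hv hn0 (C.S.symm_zero hnv) h1 (C.S.symm_zero hiv)
  have h4 := (h3.sub (h3.dy_conj hNM (B := C.S.unip i v) (C.S.unip_iso h2 hii hiv)))
  have h5 : ∀ t : F, C.InS M (t • (C.S.β i).smulRight i) := fun t => by
    have := h4.smul hNM h2 (t / (2 * C.S.β v v))
    convert this using 1
    refine LinearMap.ext fun z => ?_
    simp only [Sym3.dy_apply, Sym3.unip_apply, LinearMap.smul_apply, LinearMap.sub_apply,
      LinearMap.smulRight_apply, map_add, map_sub, map_smul, smul_eq_mul, hii, hiv, C.S.symm_zero hiv,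
      LinearMap.add_apply]
    match_scalars <;> field_simp <;> ring
  have hbase : RootIn C.hf M (C.φ (i, 0)) := by
    intro l
    obtain ⟨g, hg, hs⟩ := h5 (-l)
    convert hg using 1
    refine C.ext_act fun p => ?_
    rw [hs, C.act_apply, rt_mulVec C.hf, C.form, ← map_smul, ← map_add, LinearEquiv.symm_apply_apply]
    refine Prod.ext ?_ (by simp)
    simp [C.S.symm i, smul_smul]
  have key : ∀ a b c d : F, a * d - b * c = 1 → RootIn C.hf M (C.φ (a • i, c • i)) := by
    intro a b c d hd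
    obtain ⟨g, hg, hgN, hact⟩ := C.exists_left a b c d hd
    have := hbase.conj C.hf (hNM ⟨hgN, hg⟩) hg
    rwa [← C.phi_act, hact, smul_zero, smul_zero, add_zero, add_zero] at this
  rcases eq_or_ne a 0 with rfl | ha
  · rcases eq_or_ne c 0 with rfl | hc
    · simp only [zero_smul, Prod.mk_zero_zero, map_zero]
      exact rootIn_zero C.hf M
    · exact key 0 (-c⁻¹) c 0 (by field_simp; ring)
  · exact key a 0 c a⁻¹ (by field_simp; ring)

omit [Fintype F] in
include C in
/-- Root groups on a hyperbolic line from those at its end points. -/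
theorem rootIn_line {a b : ι → F} (hab : f a b ≠ 0) (ha : RootIn C.hf M a) (hb : RootIn C.hf M b)
    {x : ι → F} (hx : x ∈ Submodule.span F {a, b}) : RootIn C.hf M x := by
  obtain ⟨s, t, rfl⟩ := Submodule.mem_span_pair.1 hx
  rcases eq_or_ne s 0 with rfl | hs
  · rw [zero_smul, zero_add]; exact hb.smul C.hf t
  · have := (ha.smul C.hf s).step C.hf hb (t / (s * f a b))
    rwa [f_smul_left C.hf, div_mul_cancel₀ _ (mul_ne_zero hs hab)] at this

omit [Fintype F] in
include C in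
theorem ndOn_line {a b : ι → F} (hab : f a b ≠ 0) : NdOn f (Submodule.span F {a, b}) := by
  intro x hx hx0
  obtain ⟨s, t, rfl⟩ := Submodule.mem_span_pair.1 hx
  have hba := f_symm_ne C.hf hab
  rcases eq_or_ne s 0 with rfl | hs
  · have ht : t ≠ 0 := fun e => hx0 (by rw [e]; simp)
    refine ⟨(t * f b a)⁻¹ • a, Submodule.smul_mem _ _ (Submodule.subset_span (by simp)), ?_⟩
    rw [f_smul_right C.hf, zero_smul, zero_add, f_smul_left C.hf, inv_mul_cancel₀ (mul_ne_zero ht hba)]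
  · refine ⟨(s * f a b)⁻¹ • b, Submodule.smul_mem _ _ (Submodule.subset_span (by simp)), ?_⟩
    rw [f_smul_right C.hf, f_add_left C.hf, f_smul_left C.hf, f_smul_left C.hf, f_self C.hf, mul_zero, add_zero,
      inv_mul_cancel₀ (mul_ne_zero hs hab)]

/-- A non-scalar unipotent element fixing a pure Lagrangian gives the whole group. -/
theorem iso_le_of_siegel (hNM : N ⊓ isoGrp f ≤ M) (hMI : M ≤ isoGrp f) (h2 : (2 : F) ≠ 0)
    (hq : 5 ≤ Fintype.card F) {g : GL ι F} (hg : g ∈ M) {T : V3 F →ₗ[F] V3 F} (hT : C.IsSiegel g T)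
    (hns : ∀ t : F, T ≠ t • LinearMap.id) : isoGrp f ≤ M := by
  classical
  obtain ⟨n, w0, hn, hw0, hnw, hdy⟩ := exists_dy hNM hMI h2 hq hg hT hns
  obtain ⟨k₁, k₂, h11, h22, hn1, hn2, h12⟩ := C.S.exists_frame h2 hn
  obtain ⟨X, Y, hXY⟩ : ∃ X Y : F, C.S.β k₁ k₁ * X ^ 2 + C.S.β k₂ k₂ * Y ^ 2 = -C.S.β n n := by
    have hodd : Fintype.card F % 2 = 1 :=
      FiniteField.odd_card_of_char_ne_two fun e => h2 (by
        have : CharP F 2 := e ▸ ringChar.charP F
        exact CharTwo.two_eq_zero)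
    obtain ⟨X, Y, h⟩ := FiniteField.exists_root_sum_quadratic
      (f := Polynomial.C (C.S.β k₁ k₁) * Polynomial.X ^ 2)
      (g := Polynomial.C (C.S.β k₂ k₂) * Polynomial.X ^ 2 + Polynomial.C (C.S.β n n))
      (by rw [Polynomial.degree_C_mul_X_pow 2 h11]; rfl)
      (by rw [Polynomial.degree_add_eq_left_of_degree_lt] <;>
          rw [Polynomial.degree_C_mul_X_pow 2 h22] <;>
          first | rfl | exact lt_of_le_of_lt Polynomial.degree_C_le (by decide)) hodd
    refine ⟨X, Y, ?_⟩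
    simp only [Polynomial.eval_add, Polynomial.eval_mul, Polynomial.eval_C, Polynomial.eval_pow,
      Polynomial.eval_X] at h
    linear_combination h
  set h := X • k₁ + Y • k₂ with hh
  have hnh : C.S.β n h = 0 := by simp [hh, hn1, hn2]
  have hhh : C.S.β h h = -C.S.β n n := by
    rw [← hXY, hh]
    simp [h12, C.S.symm_zero h12]
    ring
  set i := n + h with hi
  set j := (2 * C.S.β n n)⁻¹ • (n - h) with hj
  have hii : C.S.β i i = 0 := by simp [hi, hnh, C.S.symm_zero hnh, hhh]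
  have hjj : C.S.β j j = 0 := by simp [hj, hnh, C.S.symm_zero hnh, hhh]
  have hij : C.S.β i j = 1 := by
    simp [hi, hj, hnh, C.S.symm_zero hnh, hhh]
    field_simp
    ring
  have hji : C.S.β j i = 1 := (C.S.symm j i).trans hij
  have hi0 : i ≠ 0 := fun e => by simp [e] at hij
  obtain ⟨w, hw0', hiw, hjw⟩ := C.S.exists_perp_ne i j
  have hww : C.S.β w w ≠ 0 := fun e => by
    obtain ⟨t, ht⟩ := C.S.iso_dep hi0 hii e hiw
    rw [ht, map_smul, hji, smul_eq_mul, mul_one] at hjw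
    exact hw0' (by rw [ht, hjw, zero_smul])
  have hwi := C.S.symm_zero hiw
  have hwj := C.S.symm_zero hjw
  have hnw' : C.S.β n w = 0 := by
    have e : n = (2 : F)⁻¹ • i + (C.S.β n n) • j := by
      rw [hi, hj, smul_smul]
      match_scalars <;> field_simp <;> ring
    rw [e]
    simp [hiw, hjw]
  have hin : C.S.β i n ≠ 0 := by simpa [hi, C.S.symm_zero hnh] using hn
  have hjn : C.S.β j n ≠ 0 := by simp [hj, C.S.symm_zero hnh, hn, h2]
  -- a third isotropic vector
  obtain ⟨γ, hγ0, hγ1⟩ := exists_sq_ne_one hq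
  obtain ⟨c, hc0, hc⟩ : ∃ c : F, c ≠ 0 ∧ C.S.β j n * (-(c ^ 2 * C.S.β w w / 2)) + C.S.β i n ≠ 0 := by
    by_cases h1 : C.S.β j n * (-((1 : F) ^ 2 * C.S.β w w / 2)) + C.S.β i n = 0
    · refine ⟨γ, hγ0, fun e => ?_⟩
      refine mul_ne_zero (mul_ne_zero hjn (sub_ne_zero.2 hγ1)) hww ?_
      field_simp at e h1
      linear_combination h1 - e
    · exact ⟨1, one_ne_zero, h1⟩
  set θ := -(c ^ 2 * C.S.β w w / 2) with hθ
  have hθ0 : θ ≠ 0 := neg_ne_zero.2 (div_ne_zero (mul_ne_zero (pow_ne_zero _ hc0) hww) h2)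
  set k := i + c • w + θ • j with hk
  have hkk : C.S.β k k = 0 := by
    simp [hk, hii, hjj, hij, hji, hiw, hwi, hjw, hwj]
    rw [hθ]
    field_simp
    ring
  have hkn : C.S.β k n ≠ 0 := by
    convert hc using 1
    simp [hk, C.S.symm_zero hnw', mul_comm]
    ring
  have R := fun {v : V3 F} (hv : C.S.β v v = 0) (hvn : C.S.β v n ≠ 0) (a b : F) =>
    rootIn_iso hNM hMI h2 hq hn hw0 hnw hdy hv hvn a b
  -- the three lines
  let D : Fin 3 → Submodule F (ι → F) := ![Submodule.span F {C.φ (i, 0), C.φ (0, j)},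
    Submodule.span F {C.φ (j, 0), C.φ (0, i)}, Submodule.span F {C.φ (w, 0), C.φ (0, w)}]
  have hl0 : f (C.φ (i, 0)) (C.φ (0, j)) ≠ 0 := by rw [C.form]; simp [hij]
  have hl1 : f (C.φ (j, 0)) (C.φ (0, i)) ≠ 0 := by rw [C.form]; simp [hji]
  have hl2 : f (C.φ (w, 0)) (C.φ (0, w)) ≠ 0 := by rw [C.form]; simp [hww]
  have mem : ∀ (m : Fin 3) (x : ι → F), x ∈ D m ↔ ∃ s t : F, x = C.φ
      (![(s • i, t • j), (s • j, t • i), (s • w, t • w)] m) := by
    intro m x
    fin_cases m <;>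
    · simp only [D, Fin.mk_zero, Fin.mk_one, Matrix.cons_val_zero, Matrix.cons_val_one, Matrix.cons_val,
        Fin.reduceFinMk, Submodule.mem_span_pair, ← map_smul, ← map_add, Prod.smul_mk, smul_zero, Prod.mk_add_mk,
        add_zero, zero_add]
      exact exists₂_congr fun s t => eq_comm
  have horth : ∀ m m', m ≠ m' → ∀ u ∈ D m, ∀ v ∈ D m', f u v = 0 := by
    intro m m' hne u hu v hv
    obtain ⟨s, t, rfl⟩ := (mem m u).1 hu
    obtain ⟨s', t', rfl⟩ := (mem m' v).1 hv
    rw [C.form]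
    fin_cases m <;> fin_cases m' <;>
      first
      | exact absurd rfl hne
      | simp [hii, hjj, hiw, hwi, hjw, hwj]
  have hD : OrthDec f D := by
    refine ⟨fun m => ?_, horth, ?_⟩
    · fin_cases m
      · exact ndOn_line (C := C) hl0
      · exact ndOn_line (C := C) hl1
      · exact ndOn_line (C := C) hl2
    · rw [eq_top_iff]
      intro x _
      obtain ⟨⟨y, z⟩, rfl⟩ := C.φ.surjective x
      have e : C.φ (y, z) = C.φ (C.S.β j y • i, C.S.β i z • j) + C.φ (C.S.β i y • j, C.S.β j z • i) +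
          C.φ ((C.S.β w y / C.S.β w w) • w, (C.S.β w z / C.S.β w w) • w) := by
        rw [← map_add, ← map_add, Prod.mk_add_mk, Prod.mk_add_mk]
        congr 2
        · exact C.S.expand_hyp hii hjj hij hww hiw hjw y
        · conv_lhs => rw [C.S.expand_hyp hii hjj hij hww hiw hjw z]
          module
      rw [e]
      exact Submodule.add_mem _ (Submodule.add_mem _
        (Submodule.mem_iSup_of_mem 0 ((mem 0 _).2 ⟨_, _, rfl⟩))
        (Submodule.mem_iSup_of_mem 1 ((mem 1 _).2 ⟨_, _, rfl⟩)))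
        (Submodule.mem_iSup_of_mem 2 ((mem 2 _).2 ⟨_, _, rfl⟩))
  have hR0 : ∀ x ∈ D 0, RootIn C.hf M x := fun x hx => rootIn_line (C := C) hl0
    (by simpa using R hii hin 1 0) (by simpa using R hjj hjn 0 1) hx
  have hR1 : ∀ x ∈ D 1, RootIn C.hf M x := fun x hx => rootIn_line (C := C) hl1
    (by simpa using R hjj hjn 1 0) (by simpa using R hii hin 0 1) hx
  -- the third line
  have hmove : ∀ {v : ι → F} {a b : ι → F}, RootIn C.hf M v → RootIn C.hf M (b - a) → f a b ≠ 0 →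
      f v (b - a) = f a b → RootIn C.hf M (v + (b - a)) := by
    intro v a b hv hd hab he
    have := hv.step C.hf hd (f a b)⁻¹
    rwa [he, inv_mul_cancel₀ hab, one_smul] at this
  have hmix : ∀ s : F, s ≠ 0 → RootIn C.hf M (C.φ (c • w, (s * c) • w)) := by
    intro s hs
    have u0 : RootIn C.hf M (C.φ (k, 0)) := by simpa using R hkk hkn 1 0
    have v0 : RootIn C.hf M (C.φ (0, k)) := by simpa using R hkk hkn 0 1
    have d0 : RootIn C.hf M (C.φ (-s⁻¹ • i, 0) - C.φ (0, θ • j)) :=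
      hR0 _ ((mem 0 _).2 ⟨-s⁻¹, -θ, by simp [← map_sub]⟩)
    have d1 : RootIn C.hf M (C.φ (-(θ * s⁻¹) • j, 0) - C.φ (0, i)) :=
      hR1 _ ((mem 1 _).2 ⟨-(θ * s⁻¹), -1, by simp [← map_sub]⟩)
    have v1 := hmove v0 d0 (by rw [C.form]; simp [hji, hij, hs, hθ0]) (by
      rw [← map_sub, C.form, C.form]
      simp [hk, hji, hij, hii, hjj, hiw, hwi, hjw, hwj])
    have v2 := hmove v1 d1 (by rw [C.form]; simp [hji, hij, hs, hθ0]) (by
      simp only [← map_sub, ← map_add, C.form]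
      simp [hk, hji, hij, hii, hjj, hiw, hwi, hjw, hwj]
      try ring)
    have := u0.step C.hf v2 (s / (c * c * C.S.β w w))
    simp only [← map_sub, ← map_add, C.form] at this
    rw [← map_smul, ← map_add] at this
    convert this using 2
    simp [hk, hji, hij, hii, hjj, hiw, hwi, hjw, hwj, smul_add, smul_smul]
    constructor <;> match_scalars <;> field_simp <;> ring
  have hw00 : RootIn C.hf M (C.φ (w, 0)) := by
    have h1 := hmix 1 one_ne_zero
    have h3 := hmix 2 h2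
    have := h1.step C.hf h3 (-(1 / (2 * (c * c * C.S.β w w))))
    rw [C.form, ← map_smul, ← map_add] at this
    have := this.smul C.hf (2 / c)
    rw [← map_smul] at this
    convert this using 2
    simp [smul_add, smul_smul]
    constructor
    · match_scalars
      field_simp
      ring
    · rw [eq_comm]
      match_scalars
      field_simp
      ring
  have hw01 : RootIn C.hf M (C.φ (0, w)) := by
    obtain ⟨b, hb, hbN, hact⟩ := C.exists_left 0 (-1) 1 0 (by ring)
    have := hw00.conj C.hf (hNM ⟨hbN, hb⟩) hb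
    rwa [← C.phi_act, hact, zero_smul, smul_zero, one_smul, smul_zero, add_zero, add_zero] at this
  have hM : ∀ m, ∀ x ∈ D m, RootIn C.hf M x := by
    intro m
    fin_cases m
    · exact hR0
    · exact hR1
    · exact fun x hx => rootIn_line (C := C) hl2 hw00 hw01 hx
  -- vectors with three components
  set u := C.φ (k, 0) with hu
  have hu' : RootIn C.hf M u := by simpa using R hkk hkn 1 0
  have p : ∀ m, proj C.hf (hD.nd m) u ≠ 0 := by
    have e : u = C.φ (i, 0) + C.φ (θ • j, 0) + C.φ (c • w, 0) := by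
      simp only [hu, hk, ← map_add, Prod.mk_add_mk, add_zero]
      congr 2
      abel
    have m0 : C.φ (i, 0) ∈ D 0 := (mem 0 _).2 ⟨1, 0, by simp⟩
    have m1 : C.φ (θ • j, 0) ∈ D 1 := (mem 1 _).2 ⟨θ, 0, by simp⟩
    have m2 : C.φ (c • w, 0) ∈ D 2 := (mem 2 _).2 ⟨c, 0, by simp⟩
    have hj0 : j ≠ 0 := fun e => by simp [e] at hij
    intro m
    rw [e, proj_add C.hf, proj_add C.hf]
    fin_cases m <;> simp only [Fin.mk_zero, Fin.mk_one, Fin.reduceFinMk]
    · rw [proj_self C.hf _ m0, proj_other C.hf hD (by decide) m1, proj_other C.hf hD (by decide) m2]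
      simpa using hi0
    · rw [proj_self C.hf _ m1, proj_other C.hf hD (by decide) m0, proj_other C.hf hD (by decide) m2]
      simp [hθ0, hj0]
    · rw [proj_self C.hf _ m2, proj_other C.hf hD (by decide) m0, proj_other C.hf hD (by decide) m1]
      simp [hc0, hw0']
  have hthree : ∀ a b d : Fin 3, a ≠ b → a ≠ d → b ≠ d → ∀ x ∈ D a, ∀ y ∈ D b, ∀ z ∈ D d,
      x ≠ 0 → y ≠ 0 → z ≠ 0 → RootIn C.hf M (x + y + z) := by
    intro a b d hab had hbd x hx y hy z hz hx0 hy0 hz0
    have pr : ∀ {m m' : Fin 3}, m ≠ m' → ∀ (v : ι → F) {e : ι → F}, e ∈ D m →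
        proj C.hf (hD.nd m') (v - proj C.hf (hD.nd m) v + e) = proj C.hf (hD.nd m') v := fun h v _ he => by
      rw [proj_add C.hf, proj_sub C.hf, proj_other C.hf hD h (proj_mem C.hf _ v),
        proj_other C.hf hD h he, sub_zero, add_zero]
    have r1 := rootIn_replace C.hf hD hM hu' a (p a) hx hx0
    have r2 := rootIn_replace C.hf hD hM r1 b (by rw [pr hab u hx]; exact p b) hy hy0
    have r3 := rootIn_replace C.hf hD hM r2 d (by rw [pr hbd _ hy, pr had u hx]; exact p d) hz hz0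
    have hs := sum_proj C.hf hD u
    have huniv : (Finset.univ : Finset (Fin 3)) = {a, b, d} :=
      (by decide : ∀ a b d : Fin 3, a ≠ b → a ≠ d → b ≠ d → Finset.univ = {a, b, d}) a b d hab had hbd
    rw [huniv, Finset.sum_insert (by simp [hab, had]), Finset.sum_pair hbd] at hs
    rw [pr hbd _ hy, pr had u hx, pr hab u hx] at r3
    convert r3 using 1
    linear_combination (norm := abel) hs
  refine iso_le_of_roots C.hf (rootIn_all C.hf hD hM ?_)
  intro a b hab x hx y hy hx0 hy0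
  obtain ⟨d, hda, hdb⟩ : ∃ d : Fin 3, d ≠ a ∧ d ≠ b :=
    (by decide : ∀ a b : Fin 3, ∃ d, d ≠ a ∧ d ≠ b) a b
  obtain ⟨x', hx', hxx⟩ := hD.nd a x hx hx0
  obtain ⟨z, hz, hz0⟩ : ∃ z ∈ D d, z ≠ 0 :=
    ⟨proj C.hf (hD.nd d) u, proj_mem C.hf _ u, p d⟩
  have hx'0 : x' ≠ 0 := fun e => by simp [e, f_zero_right C.hf] at hxx
  have hxx' : x - x' ≠ 0 := fun e => by
    rw [sub_eq_zero] at e
    rw [e, f_self C.hf] at hxx
    exact zero_ne_one hxx
  have u1 := hthree a b d hab hda.symm hdb.symm (x - x') ((D a).sub_mem hx hx') (-y) ((D b).neg_mem hy) z hz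
    hxx' (neg_ne_zero.2 hy0) hz0
  have u2 := hthree a b d hab hda.symm hdb.symm x' hx' ((2 : F) • y) ((D b).smul_mem _ hy) (-z)
    ((D d).neg_mem hz) hx'0 (smul_ne_zero h2 hy0) (neg_ne_zero.2 hz0)
  have o1 := horth a b hab
  have o2 := horth a d hda.symm
  have o3 := horth b d hdb.symm
  have hf1 : f (x - x' + -y + z) (x' + (2 : F) • y + -z) = 1 := by
    simp only [f_add_left C.hf, f_add_right C.hf, f_sub_left C.hf, f_neg_left C.hf, f_neg_right C.hf,
      f_smul_right C.hf, f_self C.hf, hxx, o1 x hx y hy, o1 x' hx' y hy, o2 x hx z hz, o2 x' hx' z hz,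
      o3 y hy z hz, f_symm_zero C.hf (o1 x' hx' y hy), f_symm_zero C.hf (o2 x' hx' z hz),
      f_symm_zero C.hf (o3 y hy z hz)]
    ring
  have := u1.step C.hf u2 1
  rw [hf1, one_mul, one_smul] at this
  convert this using 1
  rw [two_smul]
  abel

end Coord

end Cfsg.Agent.H55.SpGeo.Tensor
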