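import Cfsg.Agent.H55.SpGeo.Tensor.Two
import Cfsg.Agent.H55.SpGeo.Tensor.Siegel

/-! An overgroup without non-scalar unipotent elements fixing a pure Lagrangian lies in the tensor stabiliser. -/

set_option autoImplicit false

namespace Cfsg.Agent.H55.SpGeo.Tensor

open scoped MatrixGroups Matrix
open Matrix Module Cfsg.Agent.H95

variable {F : Type*} [Field F] [Fintype F] {ι : Type} [Fintype ι] [DecidableEq ι]
  {f : (ι → F) → (ι → F) → F} {N : Subgroup (GL ι F)} {C : Coord f N} {M : Subgroup (GL ι F)}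

namespace Coord

theorem isSquare_mul_of_not {a b : F} (ha : ¬ IsSquare a) (hb : ¬ IsSquare b) : IsSquare (a * b) := by
  classical
  have ha' := quadraticChar_neg_one_iff_not_isSquare.2 ha
  have hb' := quadraticChar_neg_one_iff_not_isSquare.2 hb
  have ha0 : a ≠ 0 := fun e => ha (e ▸ IsSquare.zero)
  have hb0 : b ≠ 0 := fun e => hb (e ▸ IsSquare.zero)
  refine (quadraticChar_one_iff_isSquare (mul_ne_zero ha0 hb0)).1 ?_
  rw [map_mul, ha', hb']
  norm_num

/-- An element of `M` sending the pure Lagrangian to a pure one lies in `N`. -/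
theorem pure_N (hM : C.Bad M) {g : GL ι F} (hg : g ∈ M) (α γ : F) (hαγ : α ≠ 0 ∨ γ ≠ 0)
    (h : ∀ y, ∃ w, C.act g (y, 0) = (α • w, γ • w)) : g ∈ N := by
  obtain ⟨a, b, hab⟩ : ∃ a b : F, a * α - b * -γ = 1 := by
    rcases eq_or_ne α 0 with rfl | hα
    · have hγ := hαγ.resolve_left (not_not.2 rfl)
      exact ⟨0, γ⁻¹, by field_simp; ring⟩
    · exact ⟨α⁻¹, 0, by field_simp; ring⟩
  obtain ⟨n, hn, hnN, hact⟩ := C.exists_left a b (-γ) α hab
  have hnM := hM.le_M ⟨hnN, hn⟩
  have := Fix.mem_N hM (M.mul_mem hnM hg) fun y => by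
    obtain ⟨w, hw⟩ := h y
    rw [C.act_mul, hw, hact]
    simp [smul_smul, mul_comm γ α]
  simpa using N.mul_mem (N.inv_mem hnN) this

/-- Outside `N`, some image of the pure Lagrangian meets it in a line. -/
theorem exists_meet (hM : C.Bad M) (h2 : (2 : F) ≠ 0) (hMN : ¬ M ≤ N) :
    ∃ g ∈ M, ¬ C.Fix g ∧ ∃ x, x ≠ 0 ∧ C.In g (x, 0) := by
  obtain ⟨g, hg, hgN⟩ := SetLike.not_le_iff_exists.1 hMN
  by_cases hA : ∃ x, x ≠ 0 ∧ C.In g (x, 0)
  · exact ⟨g, hg, fun h => hgN (h.mem_N hM hg), hA⟩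
  by_cases hB : ∃ (c : F) (z : V3 F), z ≠ 0 ∧ C.In g (c • z, z)
  · obtain ⟨c, z, hz, hIn⟩ := hB
    obtain ⟨n, hn, hnN, hact⟩ := C.exists_left 0 1 (-1) c (by ring)
    refine ⟨n * g, M.mul_mem (hM.le_M ⟨hnN, hn⟩) hg, fun h => hgN ?_, z, hz, ?_⟩
    · simpa using N.mul_mem (N.inv_mem hnN) (h.mem_N hM (M.mul_mem (hM.le_M ⟨hnN, hn⟩) hg))
    · have := hIn.mul n
      rw [hact] at this
      simpa [smul_smul] using this
  push Not at hA hB
  have hz0 : ∀ p, C.In g p → p.2 = 0 → p = 0 := fun p hp h => by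
    refine Prod.ext ?_ h
    by_contra hne
    exact hA p.1 hne (by rw [← h]; exact hp)
  have hsurj : ∀ z, ∃ p, C.In g p ∧ p.2 = z := fun z => by
    obtain ⟨x, hx⟩ := exists_of_lin_inj
      (LinearMap.snd F (V3 F) (V3 F) ∘ₗ C.act g ∘ₗ LinearMap.inl F (V3 F) (V3 F)) (fun x hx => by
        have e : C.act g (x, 0) = 0 := hz0 _ (in_act g x) hx
        exact congrArg Prod.fst (C.act_inj g (e.trans (map_zero _).symm))) z
    exact ⟨_, in_act g x, hx⟩
  obtain ⟨n, hn⟩ := C.S.exists_aniso h2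
  have hn0 : n ≠ 0 := fun e => hn (by simp [e])
  obtain ⟨⟨Tn, n'⟩, hTn, hn'⟩ := hsurj n
  dsimp only at hn'
  subst n'
  obtain ⟨z, hz, hnz, hTz⟩ := C.S.exists_perp_ne n Tn
  obtain ⟨⟨y, z'⟩, hy, hy'⟩ := hsurj z
  dsimp only at hy'
  subst z'
  obtain ⟨v, hv⟩ := hy.exists_eq
  obtain ⟨o, ho, hoN, hact⟩ := C.exists_right (C.S.refl n) (C.S.refl_iso hn)
  have hny : C.S.β n y = 0 := by
    have := hTn.iso (hM.le_iso hg) hy
    simp only [Φ, hTz, zero_sub, neg_eq_zero] at this
    exact this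
  have hfix : C.act o (y, z) = (y, z) := by simp [hact, Sym3.refl_apply, hny, hnz]
  refine ⟨g⁻¹ * o * g, M.mul_mem (M.mul_mem (M.inv_mem hg) (hM.le_M ⟨hoN, ho⟩)) hg, fun h => ?_, v, ?_, ?_⟩
  · obtain ⟨u, hu⟩ := hTn.exists_eq
    have h1 := h u
    rw [C.act_mul, C.act_mul, hu, hact] at h1
    have h3 : C.In g (C.S.refl n Tn, -n) := by
      have e : C.S.refl n n = -n := by
        rw [Sym3.refl_apply, mul_div_assoc, div_self hn]
        module
      rw [← e]
      exact h1
    have h4 := hz0 _ (h3.add hTn) (by simp)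
    rw [Prod.mk_add_mk, Sym3.refl_apply] at h4
    have h5 := congrArg Prod.fst h4
    refine hB (C.S.β n Tn / C.S.β n n) n hn0 ?_
    convert hTn using 2
    have h6 : (2 : F) • Tn = (2 : F) • ((C.S.β n Tn / C.S.β n n) • n) := by
      rw [← sub_eq_zero]
      refine Eq.trans ?_ h5
      match_scalars <;> field_simp <;> ring
    exact ((smul_right_inj h2).1 h6).symm
  · rintro rfl
    rw [Prod.mk_zero_zero, map_zero] at hv
    exact hz (congrArg Prod.snd hv).symm
  · have : C.act (g⁻¹ * o * g) (v, 0) = (v, 0) := by rw [C.act_mul, C.act_mul, hv, hfix, ← hv, C.act_inv]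
    rw [← this]
    exact in_act _ _

/-- The image relation for two elements of `M`. -/
theorem two_rel (hM : C.Bad M) (h2 : (2 : F) ≠ 0) (hq : 5 ≤ Fintype.card F) {g₁ g₂ : GL ι F} (h₁ : g₁ ∈ M)
    (h₂ : g₂ ∈ M) {p q : V3 F × V3 F} (hp0 : p ≠ 0) (hpq : ∀ t : F, q ≠ t • p) (hp₁ : C.In g₁ p)
    (hq₁ : C.In g₁ q) (hp₂ : C.In g₂ p) (hq₂ : C.In g₂ q) {r : V3 F × V3 F} (hr : C.In g₂ r) : C.In g₁ r := by
  obtain ⟨a, ha⟩ := hp₁.exists_eq
  obtain ⟨b, hb⟩ := hq₁.exists_eq
  have hg := M.mul_mem (M.inv_mem h₁) h₂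
  have e1 := hp₂.mul g₁⁻¹
  have e2 := hq₂.mul g₁⁻¹
  rw [← ha, C.act_inv] at e1
  rw [← hb, C.act_inv] at e2
  have ha0 : a ≠ 0 := fun e => hp0 (by rw [← ha, e, Prod.mk_zero_zero, map_zero])
  have hfix := two hM h2 (exists_sq_ne_one hq) (fun n hn => C.S.exists_perp_aniso h2 hn) hg ha0
    (fun t e => hpq t (by rw [← ha, ← hb, e, ← map_smul, Prod.smul_mk, smul_zero])) e1 e2
  obtain ⟨y, rfl⟩ := hr.exists_eq
  have := hfix y
  rw [C.act_mul] at this
  exact this

/-- Every overgroup without non-scalar unipotent elements lies in `N`. -/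
theorem le_N (hM : C.Bad M) (h2 : (2 : F) ≠ 0) (hq : 5 ≤ Fintype.card F) : M ≤ N := by
  classical
  by_contra hMN
  obtain ⟨g, hg, hgf, x, hx0, hx⟩ := exists_meet hM h2 hMN
  have hgi := hM.le_iso hg
  obtain ⟨γ, hγ0, hγ1⟩ := exists_sq_ne_one hq
  have htwo : ∀ {g : GL ι F}, g ∈ M → ¬ C.Fix g → ∀ {u v : V3 F}, u ≠ 0 → C.In g (u, 0) → C.In g (v, 0) →
      ∃ t : F, v = t • u := by
    intro g hg hgf u v hu hgu hgv
    by_contra h
    push Not at h
    exact hgf (two hM h2 (exists_sq_ne_one hq) (fun n hn => C.S.exists_perp_aniso h2 hn) hg hu h hgu hgv)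
  have hc : ∀ (c : F) (z : V3 F), C.In g (c • z, z) → z = 0 := by
    intro c z hz
    by_contra hz0
    obtain ⟨e, he, heN, hes⟩ := C.exists_transl (-c)
    have heM := hM.le_M ⟨heN, he⟩
    set g₁ := e * g
    have hg₁ : g₁ ∈ M := M.mul_mem heM hg
    have hes' : ∀ p, C.act e p = (p.1 + (-c) • p.2, p.2) := hes
    have hx₁ : C.In g₁ (x, 0) := by simpa [hes'] using hx.mul e
    have hz₁ : C.In g₁ (0, z) := by simpa [hes', smul_smul] using hz.mul e
    have hgf₁ : ¬ C.Fix g₁ := fun h => hgf fun y => by simpa [g₁, C.act_mul, hes'] using h y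
    obtain ⟨t, ht, htN, htact⟩ := C.exists_left γ 0 0 γ⁻¹ (by field_simp; ring)
    have htM := hM.le_M ⟨htN, ht⟩
    have hxt : C.In (t * g₁) (x, 0) := by
      simpa [htact, smul_smul, hγ0] using (hx₁.smul γ⁻¹).mul t
    have hzt : C.In (t * g₁) (0, z) := by simpa [htact, smul_smul, hγ0] using (hz₁.smul γ).mul t
    have hind : ∀ s : F, ((0 : V3 F), z) ≠ s • ((x, 0) : V3 F × V3 F) := fun s e => hz0 (by
      simpa using congrArg Prod.snd e)
    have hne : ((x, 0) : V3 F × V3 F) ≠ 0 := fun e => hx0 (congrArg Prod.fst e)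
    have hsplit : ∀ p, C.In g₁ p → C.In g₁ (p.1, 0) ∧ C.In g₁ (0, p.2) := fun p hp => by
      have h1 := two_rel hM h2 hq hg₁ (M.mul_mem htM hg₁) hne hind hx₁ hz₁ hxt hzt (hp.mul t)
      rw [htact] at h1
      have h3 : C.In g₁ (p.1, 0) := by
        have := ((h1.smul γ).sub hp).smul (γ ^ 2 - 1)⁻¹
        convert this using 1
        have h4 : γ ^ 2 - 1 ≠ 0 := sub_ne_zero.2 hγ1
        refine Prod.ext ?_ ?_
        · simp
          match_scalars
          field_simp
        · simp [smul_smul, hγ0]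
      refine ⟨h3, ?_⟩
      have e : p - (p.1, 0) = ((0, p.2) : V3 F × V3 F) := Prod.ext (by simp) (by simp)
      exact e ▸ hp.sub h3
    obtain ⟨w, hw, hwN, hwact⟩ := C.exists_left 0 1 (-1) 0 (by ring)
    have hwM := hM.le_M ⟨hwN, hw⟩
    have hwf : ¬ C.Fix (w * g₁) := fun h => by
      obtain ⟨y, hy⟩ := (hx₁.mul w).exists_eq
      have := h y
      rw [hy, hwact] at this
      simp [hx0] at this
    have hZ : ∀ z', C.In g₁ (0, z') → ∃ s : F, z' = s • z := fun z' hz' =>
      htwo (M.mul_mem hwM hg₁) hwf hz0 (by simpa [hwact] using hz₁.mul w) (by simpa [hwact] using hz'.mul w)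
    obtain ⟨e', he'⟩ := C.S.exists_one hx0
    obtain ⟨u, hu0, hzu, heu⟩ := C.S.exists_perp_ne z e'
    have huin : C.In g₁ (u, 0) := in_of_perp (hM.le_iso hg₁) fun q hq' => by
      obtain ⟨s, hs⟩ := hZ _ (hsplit q hq').2
      simp [Φ, hs, C.S.symm_zero hzu]
    obtain ⟨s, rfl⟩ := htwo hg₁ hgf₁ hx0 hx₁ huin
    rw [map_smul, C.S.symm e' x, he', smul_eq_mul, mul_one] at heu
    exact hu0 (by rw [heu, zero_smul])
  have hz1 : ∀ p, C.In g p → p.1 = 0 → p = 0 := fun p hp h => by
    refine Prod.ext h (hc 0 p.2 ?_)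
    rwa [zero_smul, ← h]
  set A := LinearMap.fst F (V3 F) (V3 F) ∘ₗ C.act g ∘ₗ LinearMap.inl F (V3 F) (V3 F)
  have hA : Function.Injective A := LinearMap.ker_eq_bot.1 (LinearMap.ker_eq_bot'.2 fun y hy => by
    have e : C.act g (y, 0) = 0 := hz1 _ (in_act g y) hy
    exact congrArg Prod.fst (C.act_inj g (e.trans (map_zero _).symm)))
  set T : V3 F →ₗ[F] V3 F := LinearMap.snd F (V3 F) (V3 F) ∘ₗ C.act g ∘ₗ LinearMap.inl F (V3 F) (V3 F) ∘ₗ
    (LinearEquiv.ofInjectiveEndo A hA).symm.toLinearMap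
  have hT : ∀ y, C.In g (y, T y) := fun y => by
    have e : A ((LinearEquiv.ofInjectiveEndo A hA).symm y) = y := by
      exact (LinearEquiv.ofInjectiveEndo A hA).apply_symm_apply y
    have : C.act g ((LinearEquiv.ofInjectiveEndo A hA).symm y, 0) = (y, T y) := Prod.ext e rfl
    rw [← this]
    exact in_act g _
  have hTeq : ∀ p, C.In g p → p.2 = T p.1 := fun p hp => by
    have := hz1 _ (hp.sub (hT p.1)) (by simp)
    exact sub_eq_zero.1 (congrArg Prod.snd this)
  have hsa : ∀ a b, C.S.β (T a) b = C.S.β a (T b) := fun a b => by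
    have := (hT a).iso hgi (hT b)
    simp only [Φ, sub_eq_zero] at this
    exact this.symm
  have hTx : T x = 0 := (hTeq _ hx).symm
  have hker : ∀ y, T y = 0 → ∃ t : F, y = t • x := fun y hy =>
    htwo hg hgf hx0 hx (by have := hT y; rwa [hy] at this)
  have heig : ∀ y (κ : F), κ ≠ 0 → T y = κ • y → y = 0 := fun y κ hκ hy => by
    have h := hc κ⁻¹ (κ • y) (by
      have := hT y
      rw [hy] at this
      rwa [smul_smul, inv_mul_cancel₀ hκ, one_smul])
    exact (smul_eq_zero.1 h).resolve_left hκ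
  have hTperp : ∀ y, C.S.β x (T y) = 0 := fun y => by rw [← hsa, hTx, map_zero, LinearMap.zero_apply]
  by_cases hxx : C.S.β x x = 0
  · obtain ⟨j₀, hj₀⟩ := C.S.exists_one hx0
    set j := j₀ - (C.S.β j₀ j₀ / 2) • x with hj
    have hxj : C.S.β x j = 1 := by simp [hj, hxx, hj₀]
    have hjj : C.S.β j j = 0 := by
      simp [hj, hxx, hj₀, C.S.symm j₀ x]
      field_simp
      ring
    obtain ⟨w, hw0, hxw, hjw⟩ := C.S.exists_perp_ne x j
    have hww : C.S.β w w ≠ 0 := fun e => by
      obtain ⟨t, ht⟩ := C.S.iso_dep hx0 hxx e hxw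
      rw [ht, map_smul, C.S.symm j x, hxj, smul_eq_mul, mul_one] at hjw
      exact hw0 (by rw [ht, hjw, zero_smul])
    have hwx := C.S.symm_zero hxw
    have hTw : T w = C.S.β j (T w) • x + (C.S.β w (T w) / C.S.β w w) • w := by
      conv_lhs => rw [C.S.expand_hyp hxx hjj hxj hww hxw hjw (T w)]
      rw [hTperp, zero_smul, add_zero]
    set a := C.S.β j (T w)
    set a' := C.S.β w (T w) / C.S.β w w
    have ha' : a' = 0 := by
      by_contra ha
      have e := heig (w + (a / a') • x) a' ha (by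
        rw [map_add, map_smul, hTx, smul_zero, add_zero, hTw, smul_add, smul_smul, mul_div_cancel₀ _ ha, add_comm])
      have := congrArg (C.S.β w) e
      simp [hwx, hww] at this
    rw [ha', zero_smul, add_zero] at hTw
    have ha0 : a ≠ 0 := fun e => by
      obtain ⟨t, ht⟩ := hker w (by rw [hTw, e, zero_smul])
      exact hww (by rw [ht]; simp [hxx])
    obtain ⟨o, ho, hoN, hact⟩ := C.exists_right (C.S.unip x w) (C.S.unip_iso h2 hxx hxw)
    have hoM := hM.le_M ⟨hoN, ho⟩
    have bx : C.S.unip x w x = x := by simp [Sym3.unip_apply, hxx, hwx]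
    have bw : C.S.unip x w w = w - C.S.β w w • x := by simp [Sym3.unip_apply, hxw]
    have hp1 : C.In g (w, a • x) := hTw ▸ hT w
    have hx2 : C.In (o * g) (x, 0) := by simpa [hact, bx] using hx.mul o
    have hp2 : C.In (o * g) (w, a • x) := by
      have e : C.In g (w + C.S.β w w • x, a • x) := by simpa using hp1.add (hx.smul (C.S.β w w))
      simpa [hact, bx, bw] using e.mul o
    have key := hTeq _ (two_rel hM h2 hq hg (M.mul_mem hoM hg) (p := (x, 0)) (q := (w, a • x))
      (fun e => hx0 (congrArg Prod.fst e)) (fun t e => hww (by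
        have e1 : w = t • x := by simpa using congrArg Prod.fst e
        rw [e1]; simp [hxx]))
      hx hp1 hx2 hp2 ((hT j).mul o))
    rw [hact] at key
    have h1 := congrArg (C.S.β j) key
    have hwTj : C.S.β w (T j) = a := by rw [← hsa, C.S.symm]
    have hjx : C.S.β j x = 1 := (C.S.symm j x).trans hxj
    simp only [Sym3.unip_apply, map_add, map_sub, map_smul, hTx, hTw, hxj, hTperp, hwTj, C.S.symm_zero hjw,
      hjw, hjx, smul_eq_mul, mul_zero, mul_one, one_mul, zero_mul, add_zero, sub_zero, smul_zero, zero_smul,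
      zero_add] at h1
    exact mul_ne_zero h2 ha0 (by linear_combination -h1)
  · obtain ⟨n, k, hn, hk, hxn, hxk, hnk⟩ := C.S.exists_frame h2 hxx
    have hexp := fun y => C.S.expand_orth hxx hn hk hxn hxk hnk y
    have hkn := C.S.symm_zero hnk
    have hnx := C.S.symm_zero hxn
    have hkx := C.S.symm_zero hxk
    set P := LinearMap.ker (C.S.β x)
    set TP : P →ₗ[F] P := T.restrict (p := P) (q := P) fun y _ => hTperp y
    have hTP : Function.Injective TP := LinearMap.ker_eq_bot.1 (LinearMap.ker_eq_bot'.2 fun y hy => by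
      obtain ⟨t, ht⟩ := hker y (congrArg Subtype.val hy)
      have hyP : C.S.β x y = 0 := y.2
      rw [ht, map_smul, smul_eq_mul, mul_eq_zero, or_iff_left hxx] at hyP
      exact Subtype.ext (by rw [ht, hyP, zero_smul]; rfl))
    have hTPs := LinearMap.surjective_of_injective hTP
    obtain ⟨⟨yn, hyn⟩, hTyn'⟩ := hTPs ⟨n, hxn⟩
    obtain ⟨⟨yk, hyk⟩, hTyk'⟩ := hTPs ⟨k, hxk⟩
    have hTyn : T yn = n := congrArg Subtype.val hTyn'
    have hTyk : T yk = k := congrArg Subtype.val hTyk'
    replace hyn : C.S.β x yn = 0 := hyn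
    replace hyk : C.S.β x yk = 0 := hyk
    set p := C.S.β n yn / C.S.β n n with hp
    set l := C.S.β k yn / C.S.β k k with hl
    set p' := C.S.β k yk / C.S.β k k with hp'
    set ρ := C.S.β k k / C.S.β n n with hρ
    have hρn : C.S.β k k = ρ * C.S.β n n := by rw [hρ, div_mul_cancel₀ _ hn]
    have en : yn = p • n + l • k := by
      conv_lhs => rw [hexp yn, hyn, zero_div, zero_smul, zero_add]
    have ek : yk = (ρ * l) • n + p' • k := by
      have e : C.S.β n yk = C.S.β k yn := by rw [← hTyn, hsa, hTyk, C.S.symm k yn]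
      conv_lhs => rw [hexp yk, hyk, zero_div, zero_smul, zero_add, e]
      rw [hl, hρ, hp']
      congr 2
      field_simp
    clear_value p l p' ρ
    have hco : ∀ {a b a' b' : F}, a • n + b • k = a' • n + b' • k → a = a' ∧ b = b' := fun {a b a' b'} e => by
      have e1 := congrArg (C.S.β n) e
      have e3 := congrArg (C.S.β k) e
      simp only [map_add, map_smul, smul_eq_mul, hnk, hkn, mul_zero, add_zero, zero_add] at e1 e3
      exact ⟨mul_right_cancel₀ hn e1, mul_right_cancel₀ hk e3⟩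
    have hinj : ∀ {u u' : V3 F}, C.S.β x u = 0 → C.S.β x u' = 0 → T u = T u' → u = u' := fun {u u'} hu hu' e => by
      obtain ⟨t, ht⟩ := hker (u - u') (by rw [map_sub, e, sub_self])
      have h1 := congrArg (C.S.β x) ht
      rw [map_sub, hu, hu', sub_zero, map_smul, smul_eq_mul, eq_comm, mul_eq_zero, or_iff_left hxx] at h1
      rwa [h1, zero_smul, sub_eq_zero] at ht
    have hneig : ∀ (α β lam : F), (α ≠ 0 ∨ β ≠ 0) →
        α • yn + β • yk = lam • (α • n + β • k) → False := by
      intro α β lam hne e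
      have hw0 : α • n + β • k ≠ 0 := fun e0 => by
        obtain ⟨h1, h3⟩ := hco (a' := 0) (b' := 0) (by rw [e0]; simp)
        exact hne.elim (· h1) (· h3)
      have h1 : T (lam • (α • n + β • k)) = α • n + β • k := by
        rw [← e, map_add, map_smul, map_smul, hTyn, hTyk]
      rcases eq_or_ne lam 0 with rfl | hlam
      · rw [zero_smul, map_zero] at h1
        exact hw0 h1.symm
      · refine hw0 (heig _ lam⁻¹ (inv_ne_zero hlam) ?_)
        rw [map_smul] at h1
        rw [← h1, smul_smul, inv_mul_cancel₀ hlam, one_smul]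
        rw [h1]
    have hl0 : l ≠ 0 := fun e => hneig 1 0 p (Or.inl one_ne_zero) (by simp [en, e])
    set d := (p - p') / 2 with hd
    have hdisc : ¬ IsSquare (d ^ 2 + ρ * l ^ 2) := by
      rintro ⟨s, hs⟩
      refine hneig ((p + p') / 2 + s - p') l ((p + p') / 2 + s) (Or.inr hl0) ?_
      rw [en, ek]
      match_scalars
      · rw [hd] at hs
        field_simp at hs ⊢
        linear_combination hs
      · field_simp
        ring
    -- the common vector
    have main : ∀ (B : V3 F →ₗ[F] V3 F), (∀ u v, C.S.β (B u) (B v) = C.S.β u v) → B x = x → ∀ (c α β α' β' : F),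
        (α' ≠ 0 ∨ β' ≠ 0) → B (α • n + β • k) = α' • n + β' • k →
        B (α • yn + β • yk) + c • B (α • n + β • k) = α' • yn + β' • yk →
        B yn + c • B n = (C.S.β n (B n) / C.S.β n n) • yn + (C.S.β k (B n) / C.S.β k k) • yk ∧
        B yk + c • B k = (C.S.β n (B k) / C.S.β n n) • yn + (C.S.β k (B k) / C.S.β k k) • yk := by
      intro B hB hBx c α β α' β' hne hBz hBy
      obtain ⟨o, ho, hoN, hact⟩ := C.exists_right B hB
      obtain ⟨e, he, heN, hes⟩ := C.exists_transl c
      have hes' : ∀ q, C.act e q = (q.1 + c • q.2, q.2) := hes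
      have hM2 := M.mul_mem (M.mul_mem (hM.le_M ⟨heN, he⟩) (hM.le_M ⟨hoN, ho⟩)) hg
      set y := α • yn + β • yk
      set q : V3 F × V3 F := (α' • yn + β' • yk, α' • n + β' • k)
      have hq1 : C.In g q := by
        have := hT (α' • yn + β' • yk)
        rwa [map_add, map_smul, map_smul, hTyn, hTyk] at this
      have hq2 : C.In (e * o * g) q := by
        have := (hT y).mul (e * o)
        rw [C.act_mul, hact, hes'] at this
        simpa [y, q, hTyn, hTyk, ← hBy, ← hBz] using this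
      have hx2 : C.In (e * o * g) (x, 0) := by
        have := hx.mul (e * o)
        rw [C.act_mul, hact, hes'] at this
        simpa [hBx] using this
      have hrel : ∀ u, C.S.β x u = 0 → C.S.β x (T u) = 0 → B (T u) = T (B u + c • B (T u)) := fun u _ _ => by
        have := hTeq _ (two_rel hM h2 hq hg hM2 (p := (x, 0)) (q := q)
          (fun e => hx0 (congrArg Prod.fst e)) (fun t e => by
            have e1 : α' • n + β' • k = 0 := by simpa [q] using congrArg Prod.snd e
            obtain ⟨h1, h3⟩ := hco (a' := 0) (b' := 0) (by rw [e1]; simp)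
            exact hne.elim (· h1) (· h3)) hx hq1 hx2 hq2 ((hT u).mul (e * o)))
        rw [C.act_mul, hact, hes'] at this
        exact this
      have hBP : ∀ {u}, C.S.β x u = 0 → C.S.β x (B u) = 0 := fun {u} hu => by
        rw [← hu, ← hB x u, hBx]
      have fin : ∀ {u v : V3 F}, C.S.β x u = 0 → C.S.β x v = 0 → T u = v →
          B u + c • B v = (C.S.β n (B v) / C.S.β n n) • yn + (C.S.β k (B v) / C.S.β k k) • yk := by
        intro u v hu hv huv
        refine hinj (by simp [hBP hu, hBP hv]) (by simp [hyn, hyk]) ?_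
        have := hrel u hu (hTperp u)
        rw [huv] at this
        rw [← this, map_add, map_smul, map_smul, hTyn, hTyk]
        conv_lhs => rw [hexp (B v), hBP hv, zero_div, zero_smul, zero_add]
      exact ⟨fin hyn hxn hTyn, fin hyk hxk hTyk⟩
    by_cases hsq : IsSquare ρ
    · obtain ⟨s, hs⟩ := hsq
      have rn : C.S.refl n n = -n := by
        rw [Sym3.refl_apply, mul_div_assoc, div_self hn]
        module
      have rk : C.S.refl n k = k := by simp [Sym3.refl_apply, hnk]
      have := (main (C.S.refl n) (C.S.refl_iso hn) (by simp [Sym3.refl_apply, hnx]) (-2 * s * l) s 1 (-s) 1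
        (Or.inr one_ne_zero) (by simp [rn, rk]) (by
          simp only [en, ek, map_add, map_smul, rn, rk, hs]
          module)).1
      simp only [en, ek, map_add, map_smul, rn, rk, map_neg, hkn, neg_zero, zero_div, zero_smul, add_zero,
        neg_div, div_self hn] at this
      have := (hco (a := -p + -(-2 * s * l)) (b := l) (a' := -p) (b' := -l) (by
        convert this using 1 <;> module)).2
      exact mul_ne_zero h2 hl0 (by linear_combination this)
    · obtain ⟨σ, hσ'⟩ := isSquare_mul_of_not hsq hdisc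
      have hσ : σ ^ 2 = ρ * (d ^ 2 + ρ * l ^ 2) := by rw [hσ']; ring
      have hσ0 : σ ≠ 0 := fun e => by
        rw [e, zero_pow two_ne_zero, eq_comm, mul_eq_zero] at hσ
        rcases hσ with h | h
        · exact hsq (h ▸ IsSquare.zero)
        · exact hdisc (h ▸ IsSquare.zero)
      have hρ0 : ρ ≠ 0 := fun e => hsq (e ▸ IsSquare.zero)
      obtain ⟨t, ht0, ht⟩ : ∃ t : F, t ≠ 0 ∧ 1 + ρ * t ^ 2 ≠ 0 := by
        by_cases h1 : 1 + ρ * 1 ^ 2 = 0
        · refine ⟨γ, hγ0, fun e => mul_ne_zero hρ0 (sub_ne_zero.2 hγ1) ?_⟩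
          linear_combination e - h1
        · exact ⟨1, one_ne_zero, h1⟩
      have ht1 : 1 - ρ * t ^ 2 ≠ 0 := fun e => hsq ⟨t⁻¹, by field_simp; linear_combination -e⟩
      set X := (1 - ρ * t ^ 2) / (1 + ρ * t ^ 2) with hX
      set Y := 2 * t / (1 + ρ * t ^ 2) with hY
      have hXY : X ^ 2 + ρ * Y ^ 2 = 1 := by rw [hX, hY]; field_simp; ring
      have hX0 : X ≠ 0 := div_ne_zero ht1 ht
      have hY0 : Y ≠ 0 := div_ne_zero (mul_ne_zero h2 ht0) ht
      have hpd : p' = p - 2 * d := by rw [hd]; field_simp; ring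
      clear_value X Y d
      set B : V3 F →ₗ[F] V3 F := ((C.S.β x x)⁻¹ • C.S.β x).smulRight x +
        ((C.S.β n n)⁻¹ • C.S.β n).smulRight (X • n + Y • k) +
        ((C.S.β k k)⁻¹ • C.S.β k).smulRight (-(ρ * Y) • n + X • k)
      have hBdef : ∀ u, B u = (C.S.β x u / C.S.β x x) • x + (C.S.β n u / C.S.β n n) • (X • n + Y • k) +
          (C.S.β k u / C.S.β k k) • (-(ρ * Y) • n + X • k) := fun u => by
        simp [B, div_eq_inv_mul]
      have hB : ∀ u v, C.S.β (B u) (B v) = C.S.β u v := fun u v => by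
        conv_rhs => rw [hexp u, hexp v]
        simp only [hBdef, map_add, map_smul, LinearMap.add_apply, LinearMap.smul_apply, smul_eq_mul, hxn, hxk,
          hnk, hnx, hkx, hkn, hρn]
        linear_combination ((C.S.β n u / C.S.β n n) * (C.S.β n v / C.S.β n n) * C.S.β n n +
          (C.S.β k u / (ρ * C.S.β n n)) * (C.S.β k v / (ρ * C.S.β n n)) * (ρ * C.S.β n n)) * hXY
      have hBx : B x = x := by simp [hBdef, hnx, hkx, hxx]
      have hBn : B n = X • n + Y • k := by simp [hBdef, hxn, hkn, hn]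
      have hBk : B k = -(ρ * Y) • n + X • k := by simp [hBdef, hxk, hnk, hk]
      obtain ⟨α, β, hne, heq⟩ : ∃ α β : F, (α ≠ 0 ∨ β ≠ 0) ∧
          B (α • yn + β • yk) + (2 * Y * σ) • B (α • n + β • k) =
            (X * α - ρ * Y * β) • yn + (Y * α + X * β) • yk := by
        by_cases hA : ρ * l - σ * X = 0
        · refine ⟨-(ρ * l) - σ * X, d + σ * Y, Or.inl (fun e => mul_ne_zero h2 (mul_ne_zero hσ0 hX0)
            (by linear_combination -e - hA)), ?_⟩
          simp only [en, ek, map_add, map_smul, hBn, hBk, hpd]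
          match_scalars
          · linear_combination (-(2 * Y)) * (σ ^ 2 * hXY + hσ)
          · ring_nf
        · refine ⟨-(ρ * (σ * Y - d)), ρ * l - σ * X, Or.inr hA, ?_⟩
          simp only [en, ek, map_add, map_smul, hBn, hBk, hpd]
          match_scalars
          · field_simp
            ring
          · linear_combination (-(2 * Y)) * (σ ^ 2 * hXY + hσ)
      have := main B hB hBx (2 * Y * σ) α β (X * α - ρ * Y * β) (Y * α + X * β) (by
        by_contra hcon
        push Not at hcon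
        have e1 : α = 0 := by linear_combination X * hcon.1 + ρ * Y * hcon.2 - α * hXY
        have e3 : β = 0 := by linear_combination X * hcon.2 - Y * hcon.1 - β * hXY
        exact hne.elim (· e1) (· e3)) (by simp only [map_add, map_smul, hBn, hBk]; module) heq
      obtain ⟨eq1, eq3⟩ := this
      simp only [en, ek, map_add, map_smul, hBn, hBk, hnk, hkn, smul_eq_mul, mul_zero, add_zero, zero_add,
        mul_div_assoc, div_self hn, div_self hk, mul_one] at eq1 eq3
      have c1 := (hco (a := p * X - l * (ρ * Y) + 2 * Y * σ * X) (b := p * Y + l * X + 2 * Y * σ * Y)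
        (a' := X * p + Y * (ρ * l)) (b' := X * l + Y * p') (by convert eq1 using 1 <;> module)).1
      have c3 := (hco (a := ρ * l * X - p' * (ρ * Y) - 2 * Y * σ * (ρ * Y))
        (b := ρ * l * Y + p' * X + 2 * Y * σ * X)
        (a' := -(ρ * Y) * p + X * (ρ * l)) (b' := -(ρ * Y) * l + X * p') (by convert eq3 using 1 <;> module)).2
      exact mul_ne_zero (mul_ne_zero (mul_ne_zero h2 h2) (mul_ne_zero hY0 hσ0)) hX0
        (by linear_combination c1 + c3)

end Coord

end Cfsg.Agent.H55.SpGeo.Tensor
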