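import Cfsg.Agent.H55.SpGeo.Tensor.Basic

/-! Images of a pure Lagrangian under an overgroup without non-scalar unipotent elements meet in at most a line. -/

set_option autoImplicit false

namespace Cfsg.Agent.H55.SpGeo.Tensor

open scoped MatrixGroups Matrix
open Matrix Module Cfsg.Agent.H95

variable {F : Type*} [Field F]

/-- A similitude fixing two independent vectors squares to the identity. -/
theorem Sym3.sq_eq_of_fix (S : Sym3 F) (h2 : (2 : F) ≠ 0) {B : V3 F →ₗ[F] V3 F} {m : F}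
    (hB : ∀ x y, S.β (B x) (B y) = m * S.β x y) {u v : V3 F} (hu : u ≠ 0) (huv : ∀ t : F, v ≠ t • u)
    (hBu : B u = u) (hBv : B v = v) (y : V3 F) : B (B y) = y := by
  have hm : m = 1 := by
    have key : ∀ a b, B a = a → B b = b → S.β a b ≠ 0 → m = 1 := fun a b ha hb h => by
      have := hB a b
      rw [ha, hb] at this
      exact (mul_eq_right₀ h).1 this.symm
    by_cases h1 : S.β u u = 0
    · by_cases h3 : S.β v v = 0
      · by_cases h4 : S.β u v = 0
        · obtain ⟨t, ht⟩ := S.iso_dep hu h1 h3 h4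
          exact absurd ht (huv t)
        · exact key u v hBu hBv h4
      · exact key v v hBv hBv h3
    · exact key u u hBu hBu h1
  subst hm
  simp only [one_mul] at hB
  obtain ⟨n, hn0, h1, h3⟩ := S.exists_perp_ne u v
  have hdiff : ∀ y, ∃ c : F, B y = y + c • n := fun y => by
    obtain ⟨c, hc⟩ := S.perp_unique hu huv hn0 h1 h3 (z := B y - y)
      (by rw [map_sub, sub_eq_zero, ← hB u y, hBu])
      (by rw [map_sub, sub_eq_zero, ← hB v y, hBv])
    exact ⟨c, by rw [← hc]; abel⟩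
  by_cases hn : S.β n n = 0
  · obtain ⟨y₁, hy₁⟩ := S.exists_one hn0
    have key : ∀ y, S.β n y ≠ 0 → B y = y := fun y hy => by
      obtain ⟨c, hc⟩ := hdiff y
      have := hB y y
      rw [hc] at this
      simp only [map_add, map_smul, LinearMap.add_apply, LinearMap.smul_apply, smul_eq_mul, hn, S.symm y n,
        mul_zero, add_zero] at this
      have hc0 : c = 0 := (mul_eq_zero.1 (show c * (2 * S.β n y) = 0 by linear_combination this)).resolve_right
        (mul_ne_zero h2 hy)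
      rw [hc, hc0, zero_smul, add_zero]
    suffices h : B y = y by rw [h, h]
    by_cases hy : S.β n y = 0
    · have e := key (y + y₁) (by simp [hy, hy₁])
      rw [map_add, key y₁ (by simp [hy₁])] at e
      exact add_right_cancel e
    · exact key y hy
  · obtain ⟨e, he⟩ := hdiff n
    obtain ⟨c, hc⟩ := hdiff y
    have hnn := hB n n
    rw [he] at hnn
    simp only [map_add, map_smul, LinearMap.add_apply, LinearMap.smul_apply, smul_eq_mul] at hnn
    have h4 : e * (2 + e) = 0 := (mul_eq_zero.1 (show e * (2 + e) * S.β n n = 0 by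
      linear_combination hnn)).resolve_right hn
    rw [hc, map_add, map_smul, he, hc]
    rcases mul_eq_zero.1 h4 with he0 | he0
    · have := hB y n
      rw [he, hc, he0] at this
      simp only [zero_smul, add_zero, map_add, map_smul, LinearMap.add_apply, LinearMap.smul_apply,
        smul_eq_mul, add_eq_left, mul_eq_zero, hn, or_false] at this
      rw [this, he0]
      simp
    · rw [show e = -2 by linear_combination he0]
      module

variable {ι : Type} [Fintype ι] [DecidableEq ι] {f : (ι → F) → (ι → F) → F} {N : Subgroup (GL ι F)}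

namespace Coord

variable (C : Coord f N)

/-- `g` maps the pure Lagrangian to itself. -/
def Fix (g : GL ι F) : Prop := ∀ y, (C.act g (y, 0)).2 = 0

/-- Membership of the image of the pure Lagrangian under `g`. -/
def In (g : GL ι F) (p : V3 F × V3 F) : Prop := (C.act g⁻¹ p).2 = 0

/-- `M` is an overgroup with no non-scalar unipotent element fixing the pure Lagrangian. -/
structure Bad (M : Subgroup (GL ι F)) : Prop where
  le_M : N ⊓ isoGrp f ≤ M
  le_iso : M ≤ isoGrp f
  scalar : ∀ g ∈ M, ∀ T, C.IsSiegel g T → ∃ t : F, T = t • LinearMap.id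

variable {C} {M : Subgroup (GL ι F)}

theorem in_act (g : GL ι F) (y : V3 F) : C.In g (C.act g (y, 0)) := by rw [In, C.act_inv]

theorem In.exists_eq {g : GL ι F} {p : V3 F × V3 F} (h : C.In g p) : ∃ y, C.act g (y, 0) = p :=
  ⟨(C.act g⁻¹ p).1, by rw [← h]; exact C.act_inv' g p⟩

theorem In.add {g : GL ι F} {p q : V3 F × V3 F} (h : C.In g p) (h' : C.In g q) : C.In g (p + q) := by
  rw [In, map_add, Prod.snd_add, h, h', add_zero]

theorem In.smul {g : GL ι F} {p : V3 F × V3 F} (h : C.In g p) (c : F) : C.In g (c • p) := by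
  rw [In, map_smul, Prod.smul_snd, h, smul_zero]

theorem In.sub {g : GL ι F} {p q : V3 F × V3 F} (h : C.In g p) (h' : C.In g q) : C.In g (p - q) := by
  rw [In, map_sub, Prod.snd_sub, h, h', sub_zero]

theorem In.mul {g : GL ι F} (h : GL ι F) {p : V3 F × V3 F} (hp : C.In g p) : C.In (h * g) (C.act h p) := by
  rw [In, _root_.mul_inv_rev, C.act_mul, C.act_inv]
  exact hp

theorem In.iso {g : GL ι F} (hg : g ∈ isoGrp f) {p q : V3 F × V3 F} (hp : C.In g p) (hq : C.In g q) :
    C.Φ p q = 0 := by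
  have hp' : (C.act g⁻¹ p).2 = 0 := hp
  have hq' : (C.act g⁻¹ q).2 = 0 := hq
  rw [← C.act_form (Subgroup.inv_mem _ hg), Φ, hp', hq']
  simp

theorem in_of_perp {g : GL ι F} (hg : g ∈ isoGrp f) {p : V3 F × V3 F}
    (h : ∀ q, C.In g q → C.Φ p q = 0) : C.In g p := by
  refine C.S.nd _ fun y => ?_
  have := h _ (in_act g y)
  rw [← C.act_form (Subgroup.inv_mem _ hg), C.act_inv, Φ] at this
  simpa using this

theorem exists_of_lin_inj (h : V3 F →ₗ[F] V3 F) (hh : ∀ y, h y = 0 → y = 0) (y : V3 F) : ∃ x, h x = y :=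
  LinearMap.surjective_of_injective (LinearMap.ker_eq_bot.1 (LinearMap.ker_eq_bot'.2 hh)) y

theorem Fix.exists_preimage {g : GL ι F} (h : C.Fix g) (y : V3 F) : ∃ x, C.act g (x, 0) = (y, 0) := by
  obtain ⟨x, hx⟩ := exists_of_lin_inj
    (LinearMap.fst F (V3 F) (V3 F) ∘ₗ C.act g ∘ₗ LinearMap.inl F (V3 F) (V3 F)) (fun x hx => by
      have e : C.act g (x, 0) = 0 := Prod.ext hx (h x)
      exact congrArg Prod.fst (C.act_inj g (e.trans (map_zero _).symm))) y
  exact ⟨x, Prod.ext hx (h x)⟩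

theorem Fix.inv {g : GL ι F} (h : C.Fix g) : C.Fix g⁻¹ := fun y => by
  obtain ⟨x, hx⟩ := h.exists_preimage y
  rw [← hx, C.act_inv]

/-- Conjugates of the transvection group of the symplectic factor. -/
theorem exists_conj (hM : C.Bad M) {g : GL ι F} (hg : g ∈ M) (t : F) :
    ∃ k ∈ M, ∀ p, C.act k p = p + t • C.act g ((C.act g⁻¹ p).2, 0) := by
  obtain ⟨e, he, heN, hs⟩ := C.exists_transl t
  refine ⟨g * e * g⁻¹, M.mul_mem (M.mul_mem hg (hM.le_M ⟨heN, he⟩)) (M.inv_mem hg), fun p => ?_⟩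
  obtain ⟨q, rfl⟩ : ∃ q, C.act g q = p := ⟨_, C.act_inv' g p⟩
  rw [C.act_mul, C.act_mul, C.act_inv, hs, ← map_smul, ← map_add]
  congr 1
  exact Prod.ext (by simp) (by simp)

/-- An element fixing the pure Lagrangian acts on it as a similitude. -/
theorem Fix.exists_sim (hM : C.Bad M) {g : GL ι F} (hg : g ∈ M) (h : C.Fix g) :
    ∃ (m : F) (B : V3 F →ₗ[F] V3 F), (∀ y, C.act g (y, 0) = (B y, 0)) ∧
      (∀ x y, C.S.β (B x) (B y) = m * C.S.β x y) ∧ m ≠ 0 ∧ ∀ z, B z = m • (C.act g (0, z)).2 := by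
  set B := LinearMap.fst F (V3 F) (V3 F) ∘ₗ C.act g ∘ₗ LinearMap.inl F (V3 F) (V3 F)
  set D := LinearMap.snd F (V3 F) (V3 F) ∘ₗ C.act g ∘ₗ LinearMap.inr F (V3 F) (V3 F)
  have hBy : ∀ y, C.act g (y, 0) = (B y, 0) := fun y => Prod.ext rfl (h y)
  have hBD : ∀ y z, C.S.β (B y) (D z) = C.S.β y z := fun y z => by
    simpa [Φ, hBy, D] using C.act_form (hM.le_iso hg) (y, 0) (0, z)
  obtain ⟨k, hk, hact⟩ := exists_conj hM hg 1
  set T := B ∘ₗ LinearMap.snd F (V3 F) (V3 F) ∘ₗ C.act g⁻¹ ∘ₗ LinearMap.inr F (V3 F) (V3 F)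
  obtain ⟨m, hm⟩ := hM.scalar k hk T fun p => by
    rw [hact, one_smul, hBy]
    have e : (C.act g⁻¹ p).2 = (C.act g⁻¹ (0, p.2)).2 := by
      conv_lhs => rw [show p = (p.1, 0) + (0, p.2) by simp, map_add, Prod.snd_add, h.inv p.1, zero_add]
    rw [e]
    exact Prod.ext rfl (by simp)
  have hB : ∀ z, B z = m • D z := fun z => by
    have e1 : T (D z) = B z := by
      show B ((C.act g⁻¹ (0, D z)).2) = B z
      congr 1
      have e : C.act g⁻¹ (C.act g (0, z)) = (0, z) := C.act_inv g _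
      rw [show C.act g (0, z) = ((C.act g (0, z)).1, 0) + (0, D z) from Prod.ext (by simp) (by simp [D]),
        map_add] at e
      have := congrArg Prod.snd e
      rwa [Prod.snd_add, h.inv, zero_add] at this
    rw [← e1, hm]
    rfl
  refine ⟨m, B, hBy, fun x y => ?_, ?_, hB⟩
  · conv_lhs => rw [hB y, map_smul, smul_eq_mul, hBD]
  · rintro rfl
    have e : C.act g (Pi.single 0 1, 0) = C.act g (0, 0) := by rw [hBy, hBy, hB, hB, zero_smul, zero_smul]
    simpa using congrFun (congrArg Prod.fst (C.act_inj g e)) 0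

theorem Fix.mem_N (hM : C.Bad M) {g : GL ι F} (hg : g ∈ M) (h : C.Fix g) : g ∈ N := by
  obtain ⟨m, B, hBy, hB, hm, hBD⟩ := h.exists_sim hM hg
  obtain ⟨n, hn, hnN, hact⟩ := C.exists_prod 1 0 0 m⁻¹ B m (by field_simp; ring) hB
  set G := LinearMap.fst F (V3 F) (V3 F) ∘ₗ C.act (n⁻¹ * g) ∘ₗ LinearMap.inr F (V3 F) (V3 F)
  have hs : C.IsSiegel (n⁻¹ * g) G := fun p => by
    have e1 : ∀ y, C.act (n⁻¹ * g) (y, 0) = (y, 0) := fun y => by
      apply C.act_inj n
      rw [C.act_mul, C.act_inv', hBy, hact]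
      simp
    have e2 : ∀ z, (C.act (n⁻¹ * g) (0, z)).2 = z := fun z => by
      have e := congrArg Prod.snd (hact (C.act (n⁻¹ * g) (0, z)))
      rw [← C.act_mul, mul_inv_cancel_left] at e
      dsimp only at e
      rw [zero_smul, zero_add] at e
      have h1 : B (C.act (n⁻¹ * g) (0, z)).2 = B z := by
        rw [hBD z, e, smul_inv_smul₀ hm]
      have h3 : C.act g ((C.act (n⁻¹ * g) (0, z)).2, 0) = C.act g (z, 0) := by rw [hBy, hBy, h1]
      exact congrArg Prod.fst (C.act_inj g h3)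
    rw [show p = (p.1, 0) + (0, p.2) by simp, map_add, e1]
    exact Prod.ext (by simp [G]) (by simp [e2])
  obtain ⟨t, ht⟩ := hM.scalar _ (M.mul_mem (M.inv_mem (hM.le_M ⟨hnN, hn⟩)) hg) G hs
  obtain ⟨e, -, heN, he⟩ := C.exists_transl t
  have heq : n⁻¹ * g = e := C.ext_act fun p => by rw [hs, he, ht]
  rw [show g = n * e by rw [← heq, mul_inv_cancel_left]]
  exact N.mul_mem hnN heN

theorem Fix.sq (hM : C.Bad M) (h2 : (2 : F) ≠ 0) {g : GL ι F} (hg : g ∈ M) (h : C.Fix g) {u v : V3 F}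
    (hu : u ≠ 0) (huv : ∀ t : F, v ≠ t • u) (hgu : C.act g (u, 0) = (u, 0)) (hgv : C.act g (v, 0) = (v, 0))
    (y : V3 F) : C.act g (C.act g (y, 0)) = (y, 0) := by
  obtain ⟨m, B, hBy, hB, -, -⟩ := h.exists_sim hM hg
  rw [hBy, hBy, C.S.sq_eq_of_fix h2 hB hu huv (congrArg Prod.fst ((hBy u).symm.trans hgu))
    (congrArg Prod.fst ((hBy v).symm.trans hgv))]

variable [Fintype F]

/-- The case of a non-singular line. -/
theorem two_aux (hM : C.Bad M) (h2 : (2 : F) ≠ 0) (hq : ∃ c : F, c ≠ 0 ∧ c ^ 2 ≠ 1) {g : GL ι F} (hg : g ∈ M)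
    {u v : V3 F} (hu : u ≠ 0) (huv : ∀ t : F, v ≠ t • u) (hgu : C.In g (u, 0)) (hgv : C.In g (v, 0))
    {n k : V3 F} (hn : C.S.β n n ≠ 0) (hnu : C.S.β n u = 0) (hnv : C.S.β n v = 0) (hk : C.S.β n k = 0)
    (hkk : C.S.β k k ≠ 0) (h0n : C.In g (0, n)) : False := by
  have hgi := hM.le_iso hg
  have hn0 : n ≠ 0 := fun e => hn (by simp [e])
  have hchar : ∀ p, C.In g p → C.S.β p.1 n = 0 ∧ ∃ c : F, p.2 = c • n := fun p hp => by
    refine ⟨?_, C.S.perp_unique hu huv hn0 (C.S.symm_zero hnu) (C.S.symm_zero hnv) ?_ ?_⟩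
    · simpa [Φ] using hp.iso hgi h0n
    · simpa [Φ] using hgu.iso hgi hp
    · simpa [Φ] using hgv.iso hgi hp
  have hin : ∀ y, C.S.β y n = 0 → C.In g (y, 0) := fun y hy => in_of_perp hgi fun q hq => by
    obtain ⟨-, c, hc⟩ := hchar q hq
    simp [Φ, hc, hy]
  choose k' hk'M hk' using fun t => exists_conj hM hg t
  set X : V3 F × V3 F → V3 F × V3 F := fun p => C.act g ((C.act g⁻¹ p).2, 0) with hX
  have hXin : ∀ p, C.In g p → X p = 0 := fun p hp => by
    have hp' : (C.act g⁻¹ p).2 = 0 := hp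
    simp only [hX, hp', Prod.mk_zero_zero, map_zero]
  have hfixP : ∀ t y, C.S.β y n = 0 → C.act (k' t) (y, 0) = (y, 0) := fun t y hy => by
    rw [hk', show C.act g _ = X (y, 0) from rfl, hXin _ (hin y hy), smul_zero, add_zero]
  have hsplit : ∀ y, ∃ (y' : V3 F) (c : F), C.S.β y' n = 0 ∧ y = y' + c • n := fun y =>
    ⟨y - (C.S.β y n / C.S.β n n) • n, C.S.β y n / C.S.β n n, by simp [hn], by abel⟩
  obtain ⟨-, r, hr⟩ := hchar _ (in_act g ((C.act g⁻¹ (n, 0)).2))
  set w := (X (n, 0)).1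
  have hXn : X (n, 0) = (w, r • n) := Prod.ext rfl hr
  have hXwn : ∀ a b : F, X (a • w, (a * r + b) • n) = 0 := fun a b => hXin _ (by
    have e : ((a • w, (a * r + b) • n) : V3 F × V3 F) = a • X (n, 0) + b • ((0 : V3 F), n) := by
      rw [hXn]
      simp [smul_smul, add_smul]
    rw [e]
    exact ((in_act g _).smul a).add (h0n.smul b))
  have hXadd : ∀ p q, X (p + q) = X p + X q := fun p q => by
    simp only [hX]
    rw [← map_add, map_add (C.act g⁻¹)]
    simp
  have hXsmul : ∀ (c : F) p, X (c • p) = c • X p := fun c p => by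
    simp only [hX]
    rw [← map_smul, map_smul (C.act g⁻¹)]
    simp
  rcases eq_or_ne r 0 with rfl | hr0
  · have hfix : ∀ t, C.Fix (k' t) := fun t y => by
      obtain ⟨y', c, hy', rfl⟩ := hsplit y
      rw [show ((y' + c • n, 0) : V3 F × V3 F) = (y', 0) + c • (n, 0) by simp, map_add, map_smul, hfixP t y' hy',
        hk' t (n, 0), show C.act g _ = X (n, 0) from rfl, hXn]
      simp
    have hzero : ∀ y, X (y, 0) = 0 := fun y => by
      have e := (hfix 2⁻¹).sq hM h2 (hk'M _) hu huv (hfixP _ u (C.S.symm_zero hnu))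
        (hfixP _ v (C.S.symm_zero hnv)) y
      rw [hk' 2⁻¹ (y, 0), map_add, map_smul, hk' 2⁻¹ (y, 0), show C.act g _ = X (y, 0) from rfl,
        hk' 2⁻¹ (X (y, 0)), show C.act g ((C.act g⁻¹ (X (y, 0))).2, 0) = X (X (y, 0)) from rfl,
        hXin _ (in_act g _), smul_zero, add_zero, add_assoc, ← add_smul, add_eq_left] at e
      rwa [show (2 : F)⁻¹ + 2⁻¹ = 1 by field_simp; ring, one_smul] at e
    have hfi : C.Fix g⁻¹ := fun y => congrArg Prod.fst (C.act_inj g
      (show C.act g ((C.act g⁻¹ (y, 0)).2, 0) = C.act g (0, 0) by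
        rw [Prod.mk_zero_zero, map_zero]; exact hzero y))
    have hfg : C.Fix g := by simpa using hfi.inv
    obtain ⟨y, hy⟩ := h0n.exists_eq
    exact hn0 (by simpa [hy] using hfg y)
  · obtain ⟨μ, hμ0, hμ⟩ := hq
    obtain ⟨e, he, heN, hes⟩ := C.exists_transl ((μ - 1) / r)
    set m := k' (-μ⁻¹) * e * k' 1
    have hmM : m ∈ M := M.mul_mem (M.mul_mem (hk'M _) (hM.le_M ⟨heN, he⟩)) (hk'M _)
    have hmP : ∀ y, C.S.β y n = 0 → C.act m (y, 0) = (y, 0) := fun y hy => by
      rw [C.act_mul, C.act_mul, hfixP _ y hy, hes]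
      simp [hfixP _ y hy]
    have hmn : C.act m (n, 0) = (μ • n, 0) := by
      rw [C.act_mul, C.act_mul, hk' 1, show C.act g _ = X (n, 0) from rfl, hXn, hes, hk',
        show ∀ p, C.act g ((C.act g⁻¹ p).2, 0) = X p from fun p => rfl]
      have e1 : ((n, 0) + (1 : F) • (w, r • n)).1 + (((μ - 1) / r) • LinearMap.id : V3 F →ₗ[F] V3 F)
          ((n, 0) + (1 : F) • (w, r • n)).2 = μ • n + w := by
        simp
        match_scalars <;> field_simp <;> ring
      have e2 : ((n, (0 : V3 F)) + (1 : F) • (w, r • n)).2 = r • n := by simp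
      rw [e1, e2, show ((μ • n + w, r • n) : V3 F × V3 F) =
          μ • (n, (0 : V3 F)) + ((1 : F) • w, ((1 : F) * r + 0) • n) by simp,
        hXadd, hXsmul, hXwn, hXn, add_zero]
      simp [smul_smul, hμ0]
    have hfm : C.Fix m := fun y => by
      obtain ⟨y', c, hy', rfl⟩ := hsplit y
      rw [show ((y' + c • n, 0) : V3 F × V3 F) = (y', 0) + c • (n, 0) by simp, map_add, map_smul, hmP y' hy', hmn]
      simp
    obtain ⟨s, B, hBy, hB, -, -⟩ := hfm.exists_sim hM hmM
    have hBk : B k = k := congrArg Prod.fst ((hBy k).symm.trans (hmP k (C.S.symm_zero hk)))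
    have hBn : B n = μ • n := congrArg Prod.fst ((hBy n).symm.trans hmn)
    have h1 := hB k k
    have h3 := hB n n
    rw [hBk] at h1
    simp only [hBn, map_smul, LinearMap.smul_apply, smul_eq_mul] at h3
    rw [← (mul_eq_right₀ hkk).1 h1.symm] at hμ
    exact hμ (mul_right_cancel₀ hn (by linear_combination h3))

/-- An image sharing two independent vectors with the pure Lagrangian equals it. -/
theorem two (hM : C.Bad M) (h2 : (2 : F) ≠ 0) (hq : ∃ c : F, c ≠ 0 ∧ c ^ 2 ≠ 1)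
    (hperp : ∀ n : V3 F, C.S.β n n ≠ 0 → ∃ k, C.S.β n k = 0 ∧ C.S.β k k ≠ 0) {g : GL ι F} (hg : g ∈ M)
    {u v : V3 F} (hu : u ≠ 0) (huv : ∀ t : F, v ≠ t • u) (hgu : C.In g (u, 0)) (hgv : C.In g (v, 0)) :
    C.Fix g := by
  have hgi := hM.le_iso hg
  obtain ⟨n, hn0, hun, hvn⟩ := C.S.exists_perp_ne u v
  have hsnd : ∀ p, C.In g p → ∃ c : F, p.2 = c • n := fun p hp =>
    C.S.perp_unique hu huv hn0 hun hvn (by simpa [Φ] using hgu.iso hgi hp)
      (by simpa [Φ] using hgv.iso hgi hp)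
  by_cases hn : C.S.β n n = 0
  · have hn' : C.In g (n, 0) := in_of_perp hgi fun q hq => by
      obtain ⟨c, hc⟩ := hsnd q hq
      simp [Φ, hc, hn]
    have hinv : ∀ (t : F) p, C.In g p → C.In g (p.1 + t • p.2, p.2) := fun t p hp => by
      obtain ⟨c, hc⟩ := hsnd p hp
      have e := hp.add (hn'.smul (t * c))
      convert e using 1
      rw [hc]
      exact Prod.ext (by simp [smul_smul]) (by simp [hc])
    obtain ⟨e, he, heN, hes⟩ := C.exists_transl (2⁻¹ : F)
    set h := g⁻¹ * e * g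
    have hhM : h ∈ M := M.mul_mem (M.mul_mem (M.inv_mem hg) (hM.le_M ⟨heN, he⟩)) hg
    have hfix : C.Fix h := fun y => by
      rw [C.act_mul, C.act_mul, hes]
      exact hinv _ _ (in_act g y)
    obtain ⟨a, ha⟩ := hgu.exists_eq
    obtain ⟨b, hb⟩ := hgv.exists_eq
    have ha0 : a ≠ 0 := fun e => hu (by
      rw [e, Prod.mk_zero_zero, map_zero] at ha
      exact (congrArg Prod.fst ha).symm)
    have hab : ∀ t : F, b ≠ t • a := fun t e => huv t (by
      have h1 := congrArg Prod.fst hb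
      rw [e, show ((t • a, 0) : V3 F × V3 F) = t • (a, 0) by simp, map_smul, ha] at h1
      simpa using h1.symm)
    have hfx : ∀ {a u : V3 F}, C.act g (a, 0) = (u, 0) → C.act h (a, 0) = (a, 0) := fun {a u} e => by
      rw [C.act_mul, C.act_mul, e, hes]
      simp only [map_zero, add_zero]
      rw [← e, C.act_inv]
    intro y
    have hes' : ∀ p, C.act e p = (p.1 + (2⁻¹ : F) • p.2, p.2) := hes
    have e := hfix.sq hM h2 hhM ha0 hab (hfx ha) (hfx hb) y
    simp only [h, C.act_mul, C.act_inv', hes'] at e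
    have e' := congrArg (C.act g) e
    rw [C.act_inv'] at e'
    have h3 := congrArg Prod.fst e'
    simp only [add_assoc, add_eq_left, ← add_smul] at h3
    rwa [show (2 : F)⁻¹ + 2⁻¹ = 1 by field_simp; ring, one_smul] at h3
  · intro y
    by_contra hy
    obtain ⟨c, hc⟩ := hsnd _ (in_act g y)
    have hc0 : c ≠ 0 := fun e => hy (by rw [hc, e, zero_smul])
    have hp := (in_act (C := C) g y).smul c⁻¹
    set p := c⁻¹ • C.act g (y, 0)
    have hp2 : p.2 = n := by simp [p, hc, smul_smul, hc0]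
    set s := C.S.β p.1 n / C.S.β n n
    have h3 : C.In g (p.1 - s • n, 0) := in_of_perp hgi fun q hq => by
      obtain ⟨c', hc'⟩ := hsnd q hq
      simp [Φ, hc', s, hn]
    obtain ⟨e, he, heN, hes⟩ := C.exists_transl (-s)
    obtain ⟨k, hk, hkk⟩ := hperp n hn
    have hu' := hgu.mul e
    have hv' := hgv.mul e
    have h0 := (hp.sub h3).mul e
    rw [hes] at hu' hv' h0
    refine two_aux hM h2 hq (M.mul_mem (hM.le_M ⟨heN, he⟩) hg) hu huv (by simpa using hu') (by simpa using hv') hn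
      (C.S.symm_zero hun) (C.S.symm_zero hvn) hk hkk ?_
    simpa [hp2, smul_smul, sub_eq_add_neg] using h0

end Coord

end Cfsg.Agent.H55.SpGeo.Tensor
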